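import Mathlib
import Cfsg.Agent.H22.Latt

/-! A counting lemma for replacement theorems. -/

set_option autoImplicit false
set_option linter.unusedSectionVars false
set_option linter.unusedVariables false

namespace Cfsg.Agent.H4

open Subgroup Cfsg.Agent.H18 Cfsg.Agent.H22
open scoped commutatorElement Pointwise

variable {G : Type*} [Group G] [Finite G]

local notation "#" A => Nat.card (A : Subgroup G)

theorem relIndex_le_of_comm_mem {Z Z' Y D : Subgroup G} {a : G} (hZ : Z' ≤ Z) (hD : D ≤ Z)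
    (h : ∀ z ∈ Z', ⁅a, z⁆ ∈ Y) : (cj a⁻¹ Z).relIndex Z' ≤ D.relIndex Y := by
  let g : Z' → Y := fun z => ⟨⁅a, (z : G)⁆, h z z.2⟩
  refine Nat.card_le_card_of_injective
    (fun q => (QuotientGroup.mk (g q.out) : _ ⧸ D.subgroupOf Y)) ?_
  intro q q' h
  rw [← QuotientGroup.out_eq' q, ← QuotientGroup.out_eq' q', QuotientGroup.eq, mem_subgroupOf, mem_cj]
  have h3 := hD (mem_subgroupOf.1 (QuotientGroup.eq.1 h))
  have h4 := Z.mul_mem (Z.mul_mem (Z.inv_mem (hZ q.out.2)) h3) (hZ q'.out.2)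
  convert h4 using 1
  simp only [g, coe_mul, coe_inv, commutatorElement_def]; group

theorem card_le_of_comm_mem {Z Z' Y : Subgroup G} {a : G} (hZ : Z' ≤ Z)
    (h : ∀ z ∈ Z', ⁅a, z⁆ ∈ Y) (h2 : Z ⊓ cj a Z' ≤ Y) : (#Z') ≤ (#Y) := by
  rw [← card_inf_mul_relIndex (cj a⁻¹ Z) Z', ← card_inf_mul_relIndex Z Y, ← card_cj a, cj_inf, cj_cj_inv]
  exact Nat.mul_le_mul (card_le_of_le (le_inf inf_le_left h2)) (relIndex_le_of_comm_mem hZ le_rfl h)

theorem flag_repl {Z X : Subgroup G} {a : G} {c : ℕ} (hn : Subgroup.upperCentralSeries G c = ⊤)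
    (h1 : ∀ z ∈ Z, ⁅a, z⁆ ∈ X) (h2 : Z ⊓ cj a Z ≤ X) (ha : a ∉ N[Z]) :
    ∑ i ∈ Finset.range c, (#Z ⊓ Subgroup.upperCentralSeries G (i + 1)) <
      ∑ i ∈ Finset.range c, (#X ⊓ Subgroup.upperCentralSeries G (i + 1)) := by
  set D := Z ⊓ cj a Z with hD
  set r : ℕ → ℕ := fun i => D.relIndex (X ⊓ Subgroup.upperCentralSeries G i) with hr
  have r1 : ∀ i, (#X ⊓ Subgroup.upperCentralSeries G i) = (#D ⊓ Subgroup.upperCentralSeries G i) * r i :=
    fun i => by rw [← card_inf_mul_relIndex D, ← inf_assoc, inf_eq_left.2 h2]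
  have r2 : ∀ i, r i ≤ r (i + 1) := fun i =>
    relIndex_le_of_le_right (inf_le_inf_left _ (Subgroup.upperCentralSeries_mono G (Nat.le_succ i)))
      (fun h => (card_pos' _).ne' (by rw [r1 (i + 1), hr]; simp only [h, mul_zero]))
  have r3 : ∀ i, (#Z ⊓ Subgroup.upperCentralSeries G (i + 1)) ≤
      (#D ⊓ Subgroup.upperCentralSeries G (i + 1)) * r i := fun i => by
    rw [← card_inf_mul_relIndex (cj a⁻¹ Z), ← card_cj a, cj_inf, cj_inf, cj_cj_inv,
      cj_eq_of_normal a (Subgroup.upperCentralSeries G (i + 1)), ← inf_assoc]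
    refine Nat.mul_le_mul_left _ (relIndex_le_of_comm_mem inf_le_left inf_le_left fun z hz => ⟨h1 z hz.1, ?_⟩)
    rw [← commutatorElement_inv]
    exact Subgroup.inv_mem _ (Subgroup.mem_upperCentralSeries_succ_iff.1 hz.2 a)
  have r4 : ∀ i, (#Z ⊓ Subgroup.upperCentralSeries G (i + 1)) ≤
      (#X ⊓ Subgroup.upperCentralSeries G (i + 1)) := fun i => by
    rw [r1]; exact (r3 i).trans (Nat.mul_le_mul_left _ (r2 i))
  refine Finset.sum_lt_sum (fun i _ => r4 i) ?_
  by_contra hcon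
  push Not at hcon
  have r5 : ∀ i, i ≤ c → r i ≤ 1 := fun i => by
    induction i with
    | zero => intro _; simp [hr]
    | succ i ih =>
      intro hi
      have := (hcon i (Finset.mem_range.2 hi)).trans (r3 i)
      rw [r1] at this
      exact (Nat.le_of_mul_le_mul_left this (card_pos' _)).trans (ih (by omega))
  have r6 := r1 c
  rw [hn, inf_top_eq, inf_top_eq] at r6
  have r7 : (#Z) ≤ (#D) := (card_le_of_comm_mem le_rfl h1 h2).trans (r6.le.trans (by
    simpa using Nat.mul_le_mul_left (#D) (r5 c le_rfl)))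
  exact ha (mem_N_of_le_cj ((eq_of_le_of_card_ge inf_le_left r7).ge.trans inf_le_right))

end Cfsg.Agent.H4
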