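import Mathlib
import Cfsg.Agent.H4.PIrr

/-! Weakly closed subgroups, large subgroups, parabolic characteristic `p`. -/

set_option autoImplicit false
set_option linter.unusedSectionVars false
set_option linter.unusedVariables false

namespace Cfsg.Agent.H4

open Subgroup Cfsg.Agent.H18 Cfsg.Agent.H22
open Cfsg.Agent.H2 (SubnormalIn ComponentIn)
open scoped commutatorElement Pointwise

variable {G : Type*} [Group G] {p : ℕ}

/-- `Q` is a weakly closed `p`-subgroup of `H`. -/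
structure WC (p : ℕ) (H Q : Subgroup G) : Prop where
  le : Q ≤ H
  pgrp : IsPGroup p Q
  eq : ∀ g ∈ H, ∀ R : Subgroup G, IsPGroup p R → Q ≤ R → cj g Q ≤ R → cj g Q = Q

theorem WC.mono {H K Q : Subgroup G} (h : WC p H Q) (h1 : Q ≤ K) (h2 : K ≤ H) : WC p K Q :=
  ⟨h1, h.pgrp, fun g hg => h.eq g (h2 hg)⟩

theorem WC.inf_N_le {H Q R : Subgroup G} (h : WC p H Q) (hR : IsPGroup p R) (hQ : Q ≤ R) :
    H ⊓ N[R] ≤ N[Q] := fun g hg => mem_N_iff_cj.2 (h.eq g hg.1 R hR hQ (cj_le_of_mem_N hg.2 hQ))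

theorem WC.le_N {H Q R : Subgroup G} (h : WC p H Q) (hR : IsPGroup p R) (hQ : Q ≤ R) (hH : R ≤ H) :
    R ≤ N[Q] := (le_inf hH le_normalizer).trans (h.inf_N_le hR hQ)

theorem WC.le_N' {H Q R : Subgroup G} (h : WC p H Q) (hR : IsPGroup p R) (hH : R ≤ H) (hQ : Q ≤ N[R]) :
    R ≤ N[Q] := le_sup_right.trans (h.le_N (pgrp_sup h.pgrp hR hQ) le_sup_left (sup_le h.le hH))

theorem WC.map_inj {G' : Type*} [Group G'] {f : G →* G'} (hf : Function.Injective f) {H Q : Subgroup G}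
    (h : WC p (H.map f) (Q.map f)) : WC p H Q := by
  refine ⟨(map_le_map_iff_of_injective hf).1 h.le, h.pgrp.of_equiv (equivMapOfInjective _ f hf).symm,
    fun g hg R h1 h2 h3 => map_injective hf ?_⟩
  rw [map_cj]
  exact h.eq _ (mem_map_of_mem f hg) (R.map f) (h1.map f) (map_mono h2) (by rw [← map_cj]; exact map_mono h3)

theorem WC.le_N_cj {H Q R L : Subgroup G} (h : R ≤ N[Q]) (hL : L ≤ N[R]) {l : G} (hl : l ∈ L) :
    R ≤ N[cj l Q] := by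
  rw [← cj_N, ← cj_eq_of_mem_N (hL hl)]; exact cj_mono _ h

theorem le_N_ncl_of_N {R L Q : Subgroup G} (h : R ≤ N[Q]) (hL : L ≤ N[R]) : R ≤ N[ncl L Q] := by
  refine le_N_iff_cj.2 fun r hr => ?_
  rw [ncl, cj_iSup]
  exact iSup_le fun l => by
    rw [cj_eq_of_mem_N (WC.le_N_cj (H := ⊤) h hL l.2 hr)]; exact cj_le_ncl l.2

theorem comm_ncl_le {A L Q K : Subgroup G} (hN : ncl L Q ≤ N[K]) (h : ∀ l ∈ L, ⁅A, cj l Q⁆ ≤ K) :
    ⁅A, ncl L Q⁆ ≤ K :=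
  comm_iSup_le (fun l => (cj_le_ncl l.2).trans hN) fun l => h l l.2

theorem comm_ncl_le' {A L Q K : Subgroup G} (hA : L ≤ N[A]) (hK : L ≤ N[K]) (hQ : Q ≤ N[K])
    (h : ⁅A, Q⁆ ≤ K) : ⁅A, ncl L Q⁆ ≤ K := by
  refine comm_ncl_le (ncl_le (le_N_N hK) hQ) fun l hl => ?_
  rw [← cj_eq_of_mem_N (hA hl), ← cj_commutator]
  exact cj_le_of_mem_N (hK hl) h

theorem ncl_sup_N' {A B Y : Subgroup G} (hB : B ≤ N[Y]) (h : A ≤ N[B]) : ncl (A ⊔ B) Y = ncl A Y := by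
  refine le_antisymm (ncl_le_iff.2 fun g hg => ?_) (ncl_mono le_sup_left le_rfl)
  obtain ⟨a, ha, b, hb, rfl⟩ := (mem_sup_of_le_N h).1 hg
  rw [cj_mul, cj_eq_of_mem_N (hB hb)]; exact cj_le_ncl ha

theorem elemAb_ncl {H Y : Subgroup G} (hY : IsElementaryAbelian p Y) (h : ∀ g ∈ H, Y ≤ C[cj g Y]) :
    IsElementaryAbelian p (ncl H Y) := by
  have h1 : ∀ g ∈ H, cj g Y ≤ C[ncl H Y] := fun g hg => by
    rw [le_centralizer_iff]
    refine ncl_le_iff.2 fun k hk => ?_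
    have := cj_mono k (h (k⁻¹ * g) (mul_mem (inv_mem hk) hg))
    rwa [cj_C, ← cj_mul, mul_inv_cancel_left] at this
  have h2 : ncl H Y ≤ C[ncl H Y] := ncl_le_iff.2 h1
  have h3 : ncl H Y ≤ omegaOne p (ncl H Y) :=
    ncl_le_iff.2 fun g hg => le_omegaOne (cj_le_ncl hg) (elemAb_cj g hY).2
  exact elemAb_le (elemAb_omegaOne h2) h3

variable [hp : Fact p.Prime] [Finite G]

theorem wc_of_syl {H Q T : Subgroup G} (hT : SylIn p T H) (hQ : Q ≤ T)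
    (h : ∀ g ∈ H, cj g Q ≤ T → cj g Q = Q) : WC p H Q := by
  refine ⟨hQ.trans hT.le, hT.isP.to_le hQ, fun g hg R h1 h2 h3 => ?_⟩
  have hQH := hQ.trans hT.le
  obtain ⟨k, hk, h4⟩ := syl_exists_cj_le (P := Q ⊔ cj g Q) hT (sup_le hQH (cj_le_of_mem hg hQH))
    (h1.to_le (sup_le h2 h3))
  rw [cj_sup, sup_le_iff, ← cj_mul] at h4
  have e1 := h k hk h4.1
  have e2 := h _ (mul_mem hk hg) h4.2
  rw [cj_mul, ← e1, cj_inj, e1] at e2
  exact e2

theorem wc_top_iff {Q : Subgroup G} : IsWeaklyClosedSubgroup p Q ↔ WC p ⊤ Q := by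
  constructor
  · rintro ⟨T, h1, h2⟩
    exact wc_of_syl (sylIn_top T) h1 fun g _ => h2 g
  · intro h
    obtain ⟨T, hT⟩ := h.pgrp.exists_le_sylow
    exact ⟨T, hT, fun g => h.eq g trivial T T.isPGroup' hT⟩

theorem WC.exists_cj {H K Q : Subgroup G} (h : WC p H Q) (h1 : Q ≤ K) (h2 : K ≤ H) {g : G} (hg : g ∈ H)
    (h3 : H22.cj g Q ≤ K) : ∃ k ∈ K, H22.cj g Q = H22.cj k Q := by
  obtain ⟨T, hT, h4⟩ := exists_sylIn_ge h.pgrp h1
  obtain ⟨k, hk, h5⟩ := syl_exists_cj_le hT h3 (isPGroup_cj g h.pgrp)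
  rw [← cj_mul] at h5
  have := h.eq _ (mul_mem (h2 hk) hg) T hT.isP h4 h5
  rw [cj_mul, cj_eq_iff] at this
  exact ⟨k⁻¹, inv_mem hk, this⟩

theorem WC.map {G' : Type*} [Group G'] (f : G →* G') {H Q : Subgroup G} (h : WC p H Q) :
    WC p (H.map f) (Q.map f) := by
  obtain ⟨T, hT, h1⟩ := exists_sylIn_ge h.pgrp h.le
  have key : ∀ g ∈ H, H22.cj (f g) (Q.map f) ≤ T.map f → H22.cj (f g) (Q.map f) = Q.map f := by
    intro g hg h2
    rw [← map_cj] at h2 ⊢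
    have h3 := le_sup_ker_of_map_le f (cj_le_of_mem hg h.le) hT.le h2
    obtain ⟨k, hk, e⟩ := h.exists_cj (h1.trans le_sup_left) (sup_le hT.le inf_le_left) hg h3
    obtain ⟨t, ht, n, hn, rfl⟩ := (mem_sup_of_le_N
      (hT.le.trans (le_N_inf le_normalizer (le_N_of_normal H f.ker)))).1 hk
    rw [e, map_cj, map_mul, MonoidHom.mem_ker.1 hn.2, mul_one, ← map_cj,
      cj_eq_of_mem_N (h.le_N hT.isP h1 hT.le ht)]
  refine ⟨map_mono h.le, h.pgrp.map f, ?_⟩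
  rintro _ ⟨g, hg, rfl⟩ R h2 h3 h4
  haveI : Finite (H.map f) := Finite.of_surjective _ (f.subgroupMap_surjective H)
  obtain ⟨_, ⟨k, hk, rfl⟩, h5⟩ := syl_exists_cj_le (P := Q.map f ⊔ H22.cj (f g) (Q.map f)) (hT.map f)
    (sup_le (map_mono h.le) (cj_le_of_mem (mem_map_of_mem f hg) (map_mono h.le))) (h2.to_le (sup_le h3 h4))
  rw [cj_sup, sup_le_iff, ← cj_mul, ← map_mul] at h5
  have e1 := key k hk h5.1
  have e2 := key _ (mul_mem hk hg) h5.2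
  rw [map_mul, cj_mul, ← e1, cj_inj, e1] at e2
  exact e2

theorem wc_iff {H Q : Subgroup G} (hQ : Q ≤ H) : IsWeaklyClosedSubgroup p (Q.subgroupOf H) ↔ WC p H Q := by
  rw [wc_top_iff]
  constructor
  · intro h
    have := h.map H.subtype
    rwa [map_subtype_top, map_subgroupOf_eq_of_le hQ] at this
  · intro h
    refine WC.map_inj H.subtype_injective ?_
    rwa [map_subtype_top, map_subgroupOf_eq_of_le hQ]

theorem WC.cj {H Q : Subgroup G} (h : WC p H Q) (g : G) : WC p (cj g H) (cj g Q) := h.map _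

theorem WC.cj_mem {H Q : Subgroup G} (h : WC p H Q) {g : G} (hg : g ∈ H) : WC p H (H22.cj g Q) := by
  have := h.cj g; rwa [cj_eq_of_mem hg] at this

theorem WC.ncl_le {H K A Q : Subgroup G} (h : WC p H Q) (h2 : K ≤ H) (hA : A ≤ H) (h3 : ncl A Q ≤ K) :
    ncl A Q ≤ ncl K Q := ncl_le_iff.2 fun a ha => by
  obtain ⟨k, hk, e⟩ := h.exists_cj ((le_ncl A Q).trans h3) h2 (hA ha) ((cj_le_ncl ha).trans h3)
  rw [e]; exact cj_le_ncl hk

theorem WC.weakClosure_eq {K Q : Subgroup G} (h : WC p ⊤ Q) (h1 : Q ≤ K) : weakClosure Q K = ncl K Q := by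
  refine le_antisymm (iSup_le fun g => ?_) (ncl_le_iff.2 fun k hk => ?_)
  · obtain ⟨k, hk, e⟩ := h.exists_cj h1 le_top (mem_top g.1) g.2
    exact e.le.trans (cj_le_ncl hk)
  · exact le_iSup_of_le (f := fun g : {g : G // Q.map (MulAut.conj g).toMonoidHom ≤ K} =>
      Q.map (MulAut.conj (g : G)).toMonoidHom) ⟨k, cj_le_of_mem hk h1⟩ le_rfl

theorem WC.ncl_ncl {K Q : Subgroup G} (h : WC p K Q) : ncl (ncl K Q) Q = ncl K Q :=
  le_antisymm (ncl_le_self (le_ncl K Q)) (h.ncl_le (ncl_le_self h.le) le_rfl le_rfl)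

theorem WC.ncl_le_sn {K S Q : Subgroup G} (h : WC p K Q) (hS : SubnormalIn S K) (h1 : Q ≤ S) :
    ncl K Q ≤ S := by
  revert h1
  refine hS.induction_on (P := fun X => Q ≤ X → ncl K Q ≤ X) (fun h1 => ncl_le_self h1) ?_
  intro X Y h1 h2 h3 ih h4
  exact (h.ncl_le h3.le le_rfl (ih (h4.trans h1))).trans (H22.ncl_le h2 h4)

theorem WC.exists_syl_le_N {K Q : Subgroup G} (h : WC p K Q) : ∃ T, SylIn p T K ∧ Q ≤ T ∧ T ≤ N[Q] := by
  obtain ⟨T, hT, h4⟩ := exists_sylIn_ge h.pgrp h.le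
  exact ⟨T, hT, h4, h.le_N hT.isP h4 hT.le⟩

theorem WC.pCoreOf_le_N {H L Q : Subgroup G} (h : WC p H Q) (hL : L ≤ H) (hQ : Q ≤ N[L]) :
    pCoreOf p L ≤ N[Q] :=
  h.le_N' (pgrp_pCoreOf L) ((pCoreOf_le L).trans hL) (hQ.trans (N_le_N_pCoreOf L))

theorem WC.inf_N_sup_res {H A Q : Subgroup G} (h : WC p H Q) (hA : A ≤ H) (hN : Q ≤ N[A]) :
    (A ⊓ N[Q]) ⊔ pResidualOf p A = A := by
  obtain ⟨R, hR, h1, -⟩ := exists_syl_N h.pgrp hN
  refine le_antisymm (sup_le inf_le_left (pResidualOf_le A)) ?_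
  conv_lhs => rw [← pResidualOf_sup_syl hR, sup_comm]
  exact sup_le_sup_right (le_inf hR.le (h.le_N' hR.isP (hR.le.trans hA) h1)) _

theorem WC.exists_mul {H A Q : Subgroup G} (h : WC p H Q) (hA : A ≤ H) (hN : Q ≤ N[A]) {a : G} (ha : a ∈ A) :
    ∃ c ∈ ⁅A, Q⁆, ∃ n ∈ A ⊓ N[Q], c * n = a := by
  have hc : ⁅A, Q⁆ ≤ A := comm_le_of_le_N hN
  obtain ⟨k, hk, e⟩ := h.exists_cj (K := ⁅A, Q⁆ ⊔ Q) le_sup_right (sup_le (hc.trans hA) h.le) (hA ha)
    (le_sup_comm_of_cj ha)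
  obtain ⟨c, hc', q, hq, rfl⟩ := (mem_sup_of_le_N' (le_N_comm_right A Q)).1 hk
  rw [cj_mul, cj_eq_of_mem hq] at e
  refine ⟨c, hc', c⁻¹ * a, ⟨A.mul_mem (A.inv_mem (hc hc')) ha, mem_N_iff_cj.2 ?_⟩, by group⟩
  rw [cj_mul, e, cj_inv_cj]

theorem WC.ncl_eq_comm_comm {H A Q : Subgroup G} (h : WC p H Q) (hA : A ≤ H) (hN : Q ≤ N[A]) :
    ncl A Q = ⁅⁅A, Q⁆, Q⁆ ⊔ Q := by
  have hc : ⁅A, Q⁆ ≤ A := comm_le_of_le_N hN
  rw [← ncl_eq_comm_sup]
  refine le_antisymm (ncl_le_iff.2 fun a ha => ?_) (ncl_mono hc le_rfl)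
  obtain ⟨c, h1, n, h2, rfl⟩ := h.exists_mul hA hN ha
  rw [cj_mul, cj_eq_of_mem_N h2.2]; exact cj_le_ncl h1

theorem WC.res_sup {K Q : Subgroup G} (h : WC p K Q) : pResidualOf p (ncl K Q) ⊔ Q = ncl K Q := by
  have h1 : pResidualOf p (ncl K Q) ⊔ Q ≤ ncl K Q := sup_le (pResidualOf_le _) (le_ncl K Q)
  exact le_antisymm h1 (h.ncl_le_sn ((sn_of_res_le (p := p) le_sup_left h1).trans
    (sn_of_N (ncl_le_self h.le) (le_N_ncl K Q))) le_sup_right)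

theorem WC.comm_res {K Q : Subgroup G} (h : WC p K Q) :
    ⁅pResidualOf p (ncl K Q), Q⁆ = pResidualOf p (ncl K Q) := by
  have hN : Q ≤ N[pResidualOf p (ncl K Q)] := (le_ncl K Q).trans (le_N_pResidualOf _)
  refine le_antisymm (comm_le_of_le_N hN) (res_le_comm h.pgrp ((pResidualOf_le _).trans ?_))
  rw [← ncl_sup_N le_normalizer hN, h.res_sup, h.ncl_ncl]

theorem wc_of_comm {H Q : Subgroup G} (hQ : Q ≤ H) (hp' : IsPGroup p Q)
    (h : ∀ g ∈ H, Q ≤ N[H22.cj g Q] → H22.cj g Q ≤ N[Q] → H22.cj g Q = Q) : WC p H Q := by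
  have key : ∀ R : Subgroup G, IsPGroup p R → Q ≤ R → R ≤ H → R ≤ N[Q] := by
    intro R h1 h2 h3
    have : R ⊓ N[Q] = R := by
      refine pgrp_eq_of_inf_N_le h1 inf_le_left fun x hx => ⟨hx.1, mem_N_iff_cj.2 (h x (h3 hx.1) ?_ ?_)⟩
      · have := cj_mono x (inf_le_right (a := R) (b := N[Q]))
        rw [cj_eq_of_mem_N hx.2, cj_N] at this
        exact (le_inf h2 le_normalizer).trans this
      · exact (cj_le_of_mem_N hx.2 (le_inf h2 le_normalizer)).trans inf_le_right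
    exact this.ge.trans inf_le_right
  refine ⟨hQ, hp', fun g hg R h1 h2 h3 => h g hg ?_ ?_⟩
  · have := key (H22.cj g⁻¹ (R ⊓ H)) (isPGroup_cj _ (h1.to_le inf_le_left))
      (cj_le_iff.1 (le_inf h3 (cj_le_of_mem hg hQ))) (cj_le_of_mem (inv_mem hg) inf_le_right)
    rw [← cj_N]
    exact (le_inf h2 hQ).trans (le_cj_iff.2 this)
  · exact (le_inf h3 (cj_le_of_mem hg hQ)).trans (key _ (h1.to_le inf_le_left) (le_inf h2 hQ) inf_le_right)

theorem WC.eq_of_N {H Q : Subgroup G} (h : WC p H Q) {g : G} (hg : g ∈ H) (h1 : H22.cj g Q ≤ N[Q]) :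
    H22.cj g Q = Q :=
  h.eq g hg _ (pgrp_sup' h.pgrp (isPGroup_cj g h.pgrp) h1) le_sup_left le_sup_right

theorem wc_of_N {H Q : Subgroup G} (hQ : Q ≤ H) (hp' : IsPGroup p Q)
    (h : ∀ R : Subgroup G, IsPGroup p R → Q ≤ R → R ≤ H → H ⊓ N[R] ≤ N[Q]) : WC p H Q := by
  obtain ⟨T, hT, h1⟩ := exists_sylIn_ge hp' hQ
  have hTN : T ≤ N[Q] := (le_inf hT.le le_normalizer).trans (h T hT.isP h1 hT.le)
  refine wc_of_syl hT h1 fun g hg h2 => ?_
  have hT' := sylIn_cj_mem hT (inv_mem hg)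
  have h3 : Q ≤ H22.cj g⁻¹ T := cj_le_iff.1 h2
  have hTN' : H22.cj g⁻¹ T ≤ N[Q] := (le_inf hT'.le le_normalizer).trans (h _ hT'.isP h3 hT'.le)
  obtain ⟨n, hn, e⟩ := syl_exists_cj_eq (hT.mono (le_inf hT.le hTN) inf_le_left)
    (hT'.mono (le_inf hT'.le hTN') inf_le_left)
  have h4 : g * n ∈ N[Q] := h T hT.isP h1 hT.le ⟨mul_mem hg hn.1, mem_N_iff_cj.2 (by rw [cj_mul, e, cj_cj_inv])⟩
  exact mem_N_iff_cj.1 (((N[Q]).mul_mem_cancel_right hn.2).1 h4)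

/-- MSS 1.47. -/
theorem WC.comm_C {Q L : Subgroup G} (h : WC p ⊤ Q) (hC : IsPGroup p C[Q]) (hQL : Q ≤ L)
    (hD : ChP p C[pCoreOf p L]) :
    ⁅Q, C[pCoreOf p L]⁆ ≤ Q ⊓ pCoreOf p L ∧ IsPGroup p C[pCoreOf p L] ∧ ChP p L := by
  set D := C[pCoreOf p L] with hDd
  have hLD : L ≤ N[D] := le_N_C (le_N_pCoreOf L)
  have hKD : D ⊔ L ≤ N[D] := sup_le le_normalizer hLD
  have hKO : D ⊔ L ≤ N[pCoreOf p L] := sup_le (C_le_N _) (le_N_pCoreOf L)
  have hKP : D ⊔ L ≤ N[pCoreOf p D] := hKD.trans (N_le_N_pCoreOf D)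
  have hP : pCoreOf p D ≤ N[Q] := h.pCoreOf_le_N le_top (hQL.trans hLD)
  have h0 : L ⊓ pCoreOf p D ≤ pCoreOf p L := inf_pCoreOf_le hLD
  have h1 : ⁅pCoreOf p D, ncl (D ⊔ L) Q⁆ ≤ pCoreOf p L := by
    refine comm_ncl_le' hKP hKO (hQL.trans (le_N_pCoreOf L)) (le_trans (le_inf ?_ ?_) h0)
    · exact (comm_le_of_le_N' hP).trans hQL
    · exact comm_le_of_le_N ((hQL.trans le_sup_right).trans hKP)
  have h3 : IsPGroup p ↥(D ⊓ ncl (D ⊔ L) Q) := by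
    refine pgrp_of_res_le_C (pgrp_pCoreOf D) hD inf_le_left ?_
    refine res_le_C_of_chain (pgrp_pCoreOf D) (inf_le_left.trans (le_N_pCoreOf D))
      (U := pCoreOf p L) ?_ ((pResidualOf_le _).trans inf_le_left)
    exact (commutator_mono le_rfl ((pResidualOf_le _).trans inf_le_right)).trans h1
  have h4 : D ⊓ ncl (D ⊔ L) Q ≤ pCoreOf p D :=
    le_pCoreOf inf_le_left (le_N_inf le_normalizer (le_sup_left.trans (le_N_ncl _ Q))) h3
  have h5 : ⁅Q, D⁆ ≤ pCoreOf p D := by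
    refine le_trans (le_inf (comm_le_of_le_N' (hQL.trans hLD)) ?_) h4
    rw [commutator_comm]
    exact (comm_le_ncl D Q).trans (ncl_mono le_sup_left le_rfl)
  have hQP : Q ≤ N[pCoreOf p D] := (hQL.trans le_sup_right).trans hKP
  have h6 : D ≤ N[Q] := by
    refine (le_inf le_top (le_N_of_comm_le ?_)).trans
      (h.inf_N_le (pgrp_sup h.pgrp (pgrp_pCoreOf D) hQP) le_sup_left)
    exact (sup_comm_le hQP le_normalizer h5 (comm_le_of_le_N (le_N_pCoreOf D))).trans le_sup_right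
  have h7 : ⁅Q, D⁆ ≤ Q ⊓ pCoreOf p L :=
    le_inf (comm_le_of_le_N h6) ((le_inf ((comm_le_of_le_N h6).trans hQL) h5).trans h0)
  have h8 : IsPGroup p D := pgrp_of_pResidualOf_le hC (res_le_C_of_chain h.pgrp h6 (U := pCoreOf p L)
    ((commutator_mono le_rfl (pResidualOf_le _)).trans (h7.trans inf_le_right)) (pResidualOf_le _))
  exact ⟨h7, h8, chP_of_pgrp_inf_C (h8.to_le inf_le_right)⟩

theorem chP_C_top {B : Subgroup G} {y : G} (hB : IsPGroup p B) (hy : y ∈ B)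
    (h : ChP p (centralizer {y})) : ChP p C[B] := by
  have := chP_C_of_le (H := ⊤) hB le_top (zpowers_le.2 hy) (by rwa [top_inf_eq, C_zpowers])
  rwa [top_inf_eq] at this

theorem chP_N_top {B : Subgroup G} (hB : IsPGroup p B) (h : ChP p C[B]) : ChP p N[B] := by
  have := chP_N_of_chP_C (H := ⊤) hB le_top (by rwa [top_inf_eq])
  rwa [top_inf_eq] at this

/-! ### large subgroups -/

omit hp [Finite G] in
theorem large_cj {Q : Subgroup G} (h : IsLarge Q) (g : G) : IsLarge (H22.cj g Q) := by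
  refine ⟨by rw [← cj_C]; exact cj_mono g h.1, fun U h1 h2 => ?_⟩
  rw [← cj_C, le_cj_iff] at h1
  have := h.2 _ h1 (by simpa using h2)
  rw [← cj_N, cj_le_iff, inv_inv, cj_N] at this
  exact this

theorem large_wc {Q : Subgroup G} (h : IsLarge Q) (hQ : IsPGroup p Q) (hne : Q ≠ ⊥) : WC p ⊤ Q :=
  wc_of_N le_top hQ fun R h1 h2 _ => inf_le_right.trans ((le_N_inf (L := N[R]) le_rfl (N_le_N_C R)).trans
    (h.2 _ (inf_le_right.trans (C_anti h2)) (pgrp_center_ne_bot h1 fun e => hne (le_bot_iff.1 (h2.trans e.le)))))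

omit hp [Finite G] in
theorem large_C_le_N {Q : Subgroup G} (h : IsLarge Q) {y : G} (hy : y ∈ C[Q]) (h1 : y ≠ 1) :
    centralizer {y} ≤ N[Q] := by
  rw [← C_zpowers]
  exact (C_le_N _).trans (h.2 _ (zpowers_le.2 hy) (by simpa using h1))

omit hp [Finite G] in
theorem large_chP_C {Q : Subgroup G} (h : IsLarge Q) (hQ : IsPGroup p Q) {y : G} (hy : y ∈ C[Q])
    (h1 : y ≠ 1) : ChP p (centralizer {y}) := by
  have h2 : Q ≤ pCoreOf p (centralizer {y}) := by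
    refine le_pCoreOf ?_ (large_C_le_N h hy h1) hQ
    rw [← C_zpowers, le_centralizer_iff]; exact zpowers_le.2 hy
  exact chP_of_le h2 (inf_le_right.trans (h.1.trans h2))

theorem large_C_le_N' {Q Y : Subgroup G} (h : IsLarge Q) (hQ : IsPGroup p Q) (hY : IsPGroup p Y)
    (hne : Y ≠ ⊥) (hN : Q ≤ N[Y]) : C[Y] ≤ N[Q] :=
  ((C_anti inf_le_left).trans (C_le_N _)).trans (h.2 _ inf_le_right (pgrp_inf_C_ne_bot hQ hY hN hne))

theorem large_comm_C {Q L : Subgroup G} (h : IsLarge Q) (hQ : IsPGroup p Q) (hne : Q ≠ ⊥) (hQL : Q ≤ L)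
    (hO : pCoreOf p L ≠ ⊥) :
    ⁅Q, C[pCoreOf p L]⁆ ≤ Q ⊓ pCoreOf p L ∧ IsPGroup p C[pCoreOf p L] ∧ ChP p L := by
  obtain ⟨y, hy, h1⟩ := (ne_bot_iff_exists_ne_one.1
    (pgrp_inf_C_ne_bot hQ (pgrp_pCoreOf L) (hQL.trans (le_N_pCoreOf L)) hO) |> fun ⟨y, h⟩ =>
      (⟨y.1, y.2, fun e => h (Subtype.ext e)⟩ : ∃ y ∈ pCoreOf p L ⊓ C[Q], y ≠ 1))
  exact (large_wc h hQ hne).comm_C (hQ.to_le h.1) hQL (chP_C_top (pgrp_pCoreOf L) hy.1 (large_chP_C h hQ hy.2 h1))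

theorem large_par {Q R T : Subgroup G} (h : IsLarge Q) (hQ : IsPGroup p Q) (hne : Q ≠ ⊥) (hT : SylIn p T ⊤)
    (hTR : T ≤ R) (hO : pCoreOf p R ≠ ⊥) : C[pCoreOf p R] ≤ pCoreOf p R := by
  obtain ⟨g, -, hg⟩ := syl_exists_cj_le hT le_top hQ
  have h1 := (large_comm_C (large_cj h g) (isPGroup_cj g hQ) (by simpa using hne) (hg.trans hTR) hO).2.1
  have hN : R ≤ N[C[pCoreOf p R]] := le_N_C (le_N_pCoreOf R)
  exact le_pCoreOf ((syl_le_of_N hT le_top h1 (hTR.trans hN)).trans hTR) hN h1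

/-- parabolic characteristic `p`, in the form used below. -/
def ParP (p : ℕ) (G : Type*) [Group G] : Prop :=
  ∀ T R : Subgroup G, SylIn p T ⊤ → T ≤ R → pCoreOf p R ≠ ⊥ → C[pCoreOf p R] ≤ pCoreOf p R

theorem parP_iff : ParP p G ↔ IsOfParabolicCharacteristic p G := by
  constructor
  · rintro h R h1 h2 ⟨T, hT⟩
    refine chP_iff.1 (inf_le_right.trans (h T _ (sylIn_top T) hT fun e => h2 (le_bot_iff.1 ?_)))
    exact (le_pCoreOf le_normalizer le_rfl h1).trans e.le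
  · intro h T R hT hTR hO
    obtain ⟨S, rfl⟩ := hT.exists_sylow_top
    have h1 := chP_iff.2 (h _ (pgrp_pCoreOf R) hO ⟨S, hTR.trans (le_N_pCoreOf R)⟩)
    have h2 : pCoreOf p N[pCoreOf p R] ≤ pCoreOf p R := by
      refine le_pCoreOf ((pCoreOf_le_syl (hT.mono (hTR.trans (le_N_pCoreOf R)) le_top)).trans hTR)
        ((le_N_pCoreOf R).trans (le_N_pCoreOf _)) (pgrp_pCoreOf _)
    exact (le_inf (C_le_N _) (C_anti h2)).trans (le_trans h1 h2)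

theorem large_parP {Q : Subgroup G} (h : IsLarge Q) (hQ : IsPGroup p Q) (hne : Q ≠ ⊥) : ParP p G :=
  fun _ _ hT hTR hO => large_par h hQ hne hT hTR hO

theorem ParP.chP_N {T R : Subgroup G} (h : ParP p G) (hT : SylIn p T ⊤) (hR : IsPGroup p R) (hne : R ≠ ⊥)
    (hN : T ≤ N[R]) : ChP p N[R] :=
  inf_le_right.trans (h T _ hT hN fun e => hne (le_bot_iff.1 ((le_pCoreOf le_normalizer le_rfl hR).trans e.le)))

theorem ParP.chP_C {T : Subgroup G} (h : ParP p G) (hT : SylIn p T ⊤) {z : G} (hz : z ∈ T ⊓ C[T])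
    (h1 : z ≠ 1) : ChP p (centralizer {z}) := by
  have h2 := h.chP_N hT (pgrp_zpowers_of_mem hT.isP hz.1) (by simpa using h1)
    ((le_centralizer_iff.1 (zpowers_le.2 hz.2)).trans (C_le_N _))
  have := chP_C_of_chP_N (H := ⊤) (by rwa [top_inf_eq])
  rwa [top_inf_eq, C_zpowers] at this

theorem exists_central_orderP {P Q : Subgroup G} (hP : IsPGroup p P) (hQ : IsPGroup p Q) (hN : P ≤ N[Q])
    (hne : Q ≠ ⊥) : ∃ z ∈ Q ⊓ C[P], orderOf z = p :=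
  pgrp_exists_orderOf_eq (hQ.to_le inf_le_left) (pgrp_inf_C_ne_bot hP hQ hN hne)

theorem parP_of_chP_C {S : Subgroup G} (hS : SylIn p S ⊤)
    (h : ∀ z ∈ S ⊓ C[S], orderOf z = p → ChP p (centralizer {z})) : ParP p G := by
  rw [parP_iff]
  rintro R h1 h2 ⟨T, hT⟩
  obtain ⟨z, hz, h3⟩ := exists_central_orderP T.isPGroup' h1 hT h2
  obtain ⟨g, -, hg⟩ := syl_exists_cj_eq (sylIn_top T) hS
  have hRT : R ≤ T := syl_le_of_N (sylIn_top T) le_top h1 hT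
  have h4 := (h (g * z * g⁻¹) (by
    rw [← hg, ← cj_C, ← cj_inf]; exact conj_mem_cj ⟨hRT hz.1, hz.2⟩) (by
    rw [← h3]; exact (MulAut.conj g).orderOf_eq z)).cj g⁻¹
  rw [cj_centralizer_singleton, show g⁻¹ * (g * z * g⁻¹) * g⁻¹⁻¹ = z by group] at h4
  exact chP_iff.1 (chP_N_top h1 (chP_C_top h1 hz.1 h4))

theorem parP_sn {S K : Subgroup G} (h : ParP p G) (hS : SylIn p S ⊤) (hK : SubnormalIn K ⊤)
    (h1 : ∀ z ∈ (S ⊓ K) ⊓ C[S ⊓ K], orderOf z = p → z ∈ C[S]) : ParP p K := by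
  have hT : SylIn p ((S ⊓ K).subgroupOf K) ⊤ := by
    refine SylIn.of_map_injective K.subtype K.subtype_injective ?_
    rw [map_subtype_top, map_subgroupOf_eq_of_le inf_le_right]; exact syl_inf_sn hS hK
  refine parP_of_chP_C hT fun z hz h2 => ?_
  rw [C_subgroupOf inf_le_right] at hz
  have h3 : orderOf (z : G) = p := by rw [orderOf_coe, h2]
  have h4 := h.chP_C hS (z := (z : G)) ⟨hz.1.1, h1 z ⟨hz.1, hz.2⟩ h3⟩ (fun e => hp.out.one_lt.ne (by rw [← h3, e, orderOf_one]))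
  have h5 := h4.of_sn (hK.inf_of_le (C := centralizer {(z : G)}) le_top)
  rw [← chP_map_inj K.subtype_injective, ← C_zpowers, map_C_subtype, MonoidHom.map_zpowers, C_zpowers]
  exact h5

theorem large_ncl_sup_C {Q L Y : Subgroup G} (h : IsLarge Q) (hQ : IsPGroup p Q) (hQL : Q ≤ L)
    (hY : IsPGroup p Y) (hne : Y ≠ ⊥) (hN : L ≤ N[Y]) : ncl (L ⊔ C[Y]) Q = ncl L Q :=
  ncl_sup_N' (large_C_le_N' h hQ hY hne (hQL.trans hN)) (le_N_C hN)

theorem large_comm_ncl_C {Q L Y : Subgroup G} (h : IsLarge Q) (hQ : IsPGroup p Q) (hQL : Q ≤ L)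
    (hY : IsPGroup p Y) (hne : Y ≠ ⊥) (hN : L ≤ N[Y]) : ⁅ncl L Q, C[Y]⁆ ≤ pCoreOf p (ncl L Q) := by
  have h1 := large_C_le_N' h hQ hY hne (hQL.trans hN)
  have hLC : L ≤ N[C[Y]] := le_N_C hN
  have hK : L ≤ N[ncl L Q ⊓ pCoreOf p C[Y]] := le_N_inf (le_N_ncl L Q) (hLC.trans (N_le_N_pCoreOf _))
  rw [commutator_comm]
  refine (comm_ncl_le' hLC hK (hQL.trans hK) (le_inf ((comm_le_of_le_N' h1).trans (le_ncl L Q)) ?_)).trans
    (inf_pCoreOf_le ((ncl_le_self hQL).trans hLC))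
  refine le_trans (le_inf (comm_le_of_le_N (hQL.trans hLC)) (comm_le_of_le_N' h1)) ?_
  exact le_pCoreOf inf_le_left (le_N_inf le_normalizer h1) (hQ.to_le inf_le_right)

theorem large_C_inf_C {Q : Subgroup G} (h : IsLarge Q) (hQ : IsPGroup p Q) (hne : Q ≠ ⊥) {g : G}
    (hg : g ∉ N[Q]) : C[Q] ⊓ C[H22.cj g Q] = ⊥ := by
  by_contra hc
  refine hg (mem_N_iff_cj.2 ((large_wc h hQ hne).eq_of_N (mem_top g) ?_))
  exact ((le_centralizer_iff.1 inf_le_right).trans (C_le_N _)).trans (h.2 _ inf_le_left hc)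

end Cfsg.Agent.H4
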