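import Mathlib
import Cfsg.Agent.H4.WC

/-! The families `𝔐` and `ℌ` of Meierfrankenfeld–Stellmacher–Stroth. -/

set_option autoImplicit false
set_option linter.unusedSectionVars false
set_option linter.unusedVariables false

namespace Cfsg.Agent.H4

open Subgroup Cfsg.Agent.H18 Cfsg.Agent.H22
open Cfsg.Agent.H2 (SubnormalIn ComponentIn)
open scoped commutatorElement Pointwise

variable {G : Type*} [Group G] {p : ℕ}

scoped notation:max "Y[" p "," H "]" => Cfsg.largestPReducedOf p H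
scoped notation:max "O[" p "," H "]" => Cfsg.pCoreOf p H

theorem mem_charP {L : Subgroup G} : L ∈ charPSubgroups p G ↔ O[p,L] ≠ ⊥ ∧ C[O[p,L]] ≤ O[p,L] := by
  rw [Ne, pCoreOf_eq_bot_iff]; rfl

theorem chP_of_mem_charP {L : Subgroup G} (h : L ∈ charPSubgroups p G) : ChP p L :=
  inf_le_right.trans (mem_charP.1 h).2

variable [hp : Fact p.Prime] [Finite G]

theorem Y_ne_bot {L : Subgroup G} (h : ChP p L) (hne : O[p,L] ≠ ⊥) : Y[p,L] ≠ ⊥ := by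
  obtain ⟨T, hT⟩ := exists_sylIn p L
  exact fun e => omegaOneCenter_ne_bot hT.isP (fun e' => hne (le_bot_iff.1 ((pCoreOf_le_syl hT).trans e'.le)))
    (le_bot_iff.1 ((omega_le_Y h hT).trans e.le))

theorem ParP.mem_charP {T L U : Subgroup G} (h : ParP p G) (hT : SylIn p T ⊤) (hTL : T ≤ L)
    (hU : IsPGroup p U) (hne : U ≠ ⊥) (hUL : U ≤ L) (hN : L ≤ N[U]) : L ∈ charPSubgroups p G := by
  have : O[p,L] ≠ ⊥ := fun e => hne (le_bot_iff.1 ((le_pCoreOf hUL hN hU).trans e.le))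
  exact H4.mem_charP.2 ⟨this, h T L hT hTL this⟩

theorem exists_max_charP {L : Subgroup G} (h : L ∈ charPSubgroups p G) :
    ∃ X ∈ maxCharPSubgroups p G, L ≤ X := by
  obtain ⟨K, h1, h2, h3⟩ := exists_maximal_subgroup (P := fun K => K ∈ charPSubgroups p G) h
  exact ⟨K, ⟨h2, h3⟩, h1⟩

/-- the relation `L ≪ M`. -/
def Ll (p : ℕ) (T L M : Subgroup G) : Prop :=
  ∃ X, T ≤ X ∧ X ≤ M ∧ X ⊔ C[Y[p,L]] = L ⊔ C[Y[p,L]]

omit hp [Finite G] in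
theorem ll_of_le {T L M : Subgroup G} (h1 : T ≤ L) (h2 : L ≤ M) : Ll p T L M := ⟨L, h1, h2, rfl⟩

theorem Ll.Y_le {T L M : Subgroup G} (h : Ll p T L M) (hT : SylIn p T ⊤) (hTL : T ≤ L) (hM : ChP p M) :
    Y[p,L] ≤ Y[p,M] := by
  obtain ⟨X, h1, h2, e⟩ := h
  have := (pred_Y (p := p) L).of_sup_eq
    ((pred_Y L).le_pCoreOf.trans ((pCoreOf_le_syl (hT.mono hTL le_top)).trans h1)) e.symm
  exact this.le_Y.trans (Y_le_Y_of_le hM (hT.mono (h1.trans h2) le_top) h1 h2)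

theorem Ll.trans {T L M K : Subgroup G} (h : Ll p T L M) (h' : Ll p T M K) (hT : SylIn p T ⊤) (hTL : T ≤ L)
    (hM : ChP p M) : Ll p T L K := by
  have hY := C_anti (h.Y_le hT hTL hM)
  obtain ⟨X, h1, h2, e⟩ := h
  obtain ⟨X', h3, h4, e'⟩ := h'
  refine ⟨X' ⊓ (L ⊔ C[Y[p,L]]), le_inf h3 (hTL.trans le_sup_left), inf_le_left.trans h4,
    le_antisymm (sup_le inf_le_right le_sup_right) ?_⟩
  conv_lhs => rw [← e]
  refine sup_le (fun x hx => ?_) le_sup_right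
  have hN : X' ≤ N[C[Y[p,M]]] :=
    le_sup_left.trans (e'.le.trans (sup_le (le_N_C (le_N_Y M)) le_normalizer))
  obtain ⟨a, ha, c, hc, rfl⟩ := (mem_sup_of_le_N hN).1 ((le_sup_left.trans e'.ge) (h2 hx))
  refine mul_mem (mem_sup_left ⟨ha, ?_⟩) (mem_sup_right (hY hc))
  have : a * c * c⁻¹ ∈ L ⊔ C[Y[p,L]] :=
    mul_mem ((le_sup_left.trans e.le) hx) (mem_sup_right (inv_mem (hY hc)))
  simpa using this

theorem Ll.exists_Ls {T L M : Subgroup G} (h : Ll p T L M) (hT : SylIn p T ⊤) (hTL : T ≤ L) (hL : ChP p L) :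
    ∃ Ls, T ≤ Ls ∧ Ls ≤ M ∧ Y[p,L] = Y[p,Ls] ∧ L ⊔ C[Y[p,L]] = Ls ⊔ C[Y[p,L]] := by
  obtain ⟨X, h1, h2, e⟩ := h
  have hT1 := hT.mono hTL le_top
  have hT' := hT.mono h1 le_top
  have hY := pred_Y (p := p) L
  have hY' := hY.of_sup_eq (hY.le_pCoreOf.trans ((pCoreOf_le_syl hT1).trans h1)) e.symm
  refine ⟨X ⊓ N[T ⊓ C[Y[p,L]]], le_inf h1 (le_N_inf le_normalizer (h1.trans hY'.NC)), inf_le_left.trans h2,
    le_antisymm (hY'.N_syl hT').le_Y ?_, by rw [frattini_C' hY'.N hT', e]⟩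
  refine (pred_Y _).le_omega.trans ?_
  rw [hY'.pCoreOf_N_syl hT']
  exact (Y_eq_omega hL hT1).ge

theorem exists_frakM {T L : Subgroup G} (h : ParP p G) (hT : SylIn p T ⊤) (hTL : T ≤ L)
    (hL : L ∈ charPSubgroups p G) : ∃ M, T ≤ M ∧ IsInFrakM p M ∧ Ll p T L M := by
  obtain ⟨V, ⟨K₀, ⟨hK₀, hTK₀, hl₀⟩, rfl⟩, hmax⟩ := exists_max_card
    (P := fun V => ∃ K, (K ∈ charPSubgroups p G ∧ T ≤ K ∧ Ll p T L K) ∧ Y[p,K] = V)
    ⟨L, ⟨hL, hTL, ll_of_le hTL le_rfl⟩, rfl⟩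
  have hY0 := Y_ne_bot (chP_of_mem_charP hK₀) (mem_charP.1 hK₀).1
  have key0 : ∀ K, K ∈ charPSubgroups p G → T ≤ K → Ll p T K₀ K → Y[p,K] = Y[p,K₀] := by
    intro K h1 h2 h3
    exact (eq_of_le_of_card_ge (h3.Y_le hT hTK₀ (chP_of_mem_charP h1))
      (hmax _ ⟨K, ⟨h1, h2, hl₀.trans h3 hT hTL (chP_of_mem_charP hK₀)⟩, rfl⟩)).symm
  set V := Y[p,K₀] with hV
  have hVp : IsPGroup p V := (pred_Y K₀).pgrp
  have hTK : T ≤ N[V] := hTK₀.trans (le_N_Y K₀)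
  have hK : N[V] ∈ charPSubgroups p G := h.mem_charP hT hTK hVp hY0 le_normalizer le_rfl
  have hl : Ll p T K₀ N[V] := ll_of_le hTK₀ (le_N_Y K₀)
  have hYK : Y[p,N[V]] = V := key0 _ hK hTK hl
  have key : ∀ K, K ∈ charPSubgroups p G → T ≤ K → Ll p T N[V] K → Y[p,K] = V := fun K h1 h2 h3 =>
    key0 K h1 h2 (hl.trans h3 hT hTK₀ (chP_of_mem_charP hK))
  obtain ⟨M, hMK, ⟨hTM, hM⟩, hmin⟩ := exists_minimal_subgroup
    (P := fun M => T ≤ M ∧ M ⊔ C[V] = N[V]) (H := N[V]) ⟨hTK, sup_eq_left.2 (C_le_N V)⟩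
  have hVT : V ≤ T := (pred_Y K₀).le_pCoreOf.trans (pCoreOf_le_syl (hT.mono hTK₀ le_top))
  have hM1 : M ∈ charPSubgroups p G := h.mem_charP hT hTM hVp hY0 (hVT.trans hTM) hMK
  have hll : ∀ X, M ≤ X → Ll p T N[V] X := fun X hX =>
    ⟨M, hTM, hX, by rw [hYK, hM, sup_eq_left.2 (C_le_N V)]⟩
  have hYM : Y[p,M] = V := key M hM1 hTM (hll M le_rfl)
  have hle : ∀ X ∈ charPSubgroups p G, M ≤ X → X ≤ N[V] := fun X h1 h2 => by
    rw [← key X h1 (hTM.trans h2) (hll X h2)]; exact le_N_Y X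
  have hTM' := hT.mono hTM le_top
  have hN : M ≤ N[T ⊓ C[V]] := by
    have := hmin (M ⊓ N[T ⊓ C[V]]) ⟨le_inf hTM (le_N_inf le_normalizer (le_N_C hTK)),
      by rw [frattini_C' hMK hTM', hM]⟩ inf_le_left
    exact this.ge.trans inf_le_right
  have hS : SylIn p (T ⊓ C[V]) (M ⊓ C[V]) := syl_inf hTM' (le_N_C hMK)
  refine ⟨M, hTM, ?_, (hl₀.trans hl hT hTL (chP_of_mem_charP hK₀)).trans (hll M le_rfl) hT hTL
    (chP_of_mem_charP hK)⟩
  unfold IsInFrakM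
  rw [hYM, hM]
  refine ⟨hM1, ⟨hK, fun X h1 h2 => le_antisymm (hle X h1 (hMK.trans h2)) h2⟩,
    fun X h1 h2 => (h1.2 _ hK (hle X h1.1 h2)).symm, hYK.symm,
    pcl_iff.1 (pcl_of_syl_N hS (inf_le_left.trans hN)), ?_⟩
  rw [map_le_frattini_quot_iff inf_le_left]
  intro U hU hO e
  obtain ⟨R, hR, hRU⟩ := exists_syl_le_of_sup (hU.trans (le_N_inf le_normalizer (le_N_C hMK))) e hS
    ((le_pCoreOf (inf_le_left.trans hTM) hN hS.isP).trans hO)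
  obtain ⟨m, hm, e1⟩ := syl_exists_cj_eq hR hTM'
  have e2 := congrArg (cj m) e
  rw [cj_sup, cj_eq_of_mem hm, cj_eq_of_mem_N (le_N_inf le_normalizer (le_N_C hMK) hm)] at e2
  have := hmin (cj m U) ⟨e1.ge.trans (cj_mono m hRU), le_antisymm
    (sup_le ((cj_le_of_mem hm hU).trans hMK) (C_le_N V)) (by
      rw [← hM]
      exact sup_le (e2.ge.trans (sup_le_sup_left inf_le_right _)) le_sup_right)⟩ (cj_le_of_mem hm hU)
  rw [cj_eq_iff, cj_eq_of_mem (inv_mem hm)] at this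
  exact this

/-- the standing hypotheses: `M ∈ 𝔐(S)` in a group of parabolic characteristic `p`. -/
structure FM (p : ℕ) (S M : Subgroup G) : Prop where
  par : ParP p G
  syl : SylIn p S ⊤
  le : S ≤ M
  fm : IsInFrakM p M

theorem fm_of_large {S : Sylow p G} {Q M : Subgroup G} (hQp : IsPGroup p Q) (hQ1 : Q ≠ ⊥) (hQ : IsLarge Q)
    (hSM : (S : Subgroup G) ≤ M) (hM : IsInFrakM p M) : FM p (S : Subgroup G) M :=
  ⟨large_parP hQ hQp hQ1, sylIn_top S, hSM, hM⟩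

namespace FM

variable {S M : Subgroup G} (h : FM p S M)
include h

theorem chP : ChP p M := chP_of_mem_charP h.fm.1
theorem O_ne : O[p,M] ≠ ⊥ := (H4.mem_charP.1 h.fm.1).1
theorem C_O_le : C[O[p,M]] ≤ O[p,M] := (H4.mem_charP.1 h.fm.1).2
theorem Y_ne : Y[p,M] ≠ ⊥ := Y_ne_bot h.chP h.O_ne
theorem sylM : SylIn p S M := h.syl.mono h.le le_top
theorem Y_le_O : Y[p,M] ≤ O[p,M] := (pred_Y M).le_pCoreOf
theorem O_le_C : O[p,M] ≤ C[Y[p,M]] := (pred_Y M).pCoreOf_le_C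
theorem Yp : IsPGroup p Y[p,M] := (pred_Y M).pgrp
theorem Yea : IsElementaryAbelian p Y[p,M] := (pred_Y M).ea

theorem O_eq : O[p,M] = S ⊓ C[Y[p,M]] := by
  refine le_antisymm (le_inf (pCoreOf_le_syl h.sylM) h.O_le_C) ?_
  have h1 := (pcl_iff.2 h.fm.2.2.2.2.1).syl_eq (syl_inf h.sylM (pred_Y M).NC)
  rw [h1]
  exact pCoreOf_mono_N inf_le_left (le_N_inf le_normalizer (pred_Y M).NC)

theorem syl_C : SylIn p O[p,M] C[Y[p,M]] := by
  rw [h.O_eq]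
  exact syl_inf' (h.syl.mono (h.le.trans (le_N_Y M)) le_top) (N_le_N_C _) (C_le_N _)

theorem Y_eq : Y[p,M] = omegaOneCenter p O[p,M] := by
  rw [h.O_eq]; exact Y_eq_omega h.chP h.sylM

theorem N_O_le : N[O[p,M]] ≤ N[Y[p,M]] := by
  conv_rhs => rw [h.Y_eq]
  exact N_le_N_omegaOneCenter _

theorem le_dag {X : Subgroup G} (h1 : X ∈ charPSubgroups p G) (h2 : M ≤ X) : X ≤ M ⊔ C[Y[p,M]] := by
  obtain ⟨X', h3, h4⟩ := exists_max_charP h1
  rw [← h.fm.2.2.1 X' h3 (h2.trans h4)]; exact h4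

theorem N_le_dag {U : Subgroup G} (hU : IsPGroup p U) (hne : U ≠ ⊥) (hN : M ≤ N[U]) : N[U] ≤ M ⊔ C[Y[p,M]] :=
  h.le_dag (h.par.mem_charP h.syl (h.le.trans hN) hU hne le_normalizer le_rfl) hN

theorem dag_eq : M ⊔ C[Y[p,M]] = N[Y[p,M]] :=
  le_antisymm (sup_le (le_N_Y M) (C_le_N _)) (h.N_le_dag h.Yp h.Y_ne (le_N_Y M))

theorem N_le {U : Subgroup G} (hU : IsPGroup p U) (hne : U ≠ ⊥) (hN : M ≤ N[U]) : N[U] ≤ N[Y[p,M]] :=
  (h.N_le_dag hU hne hN).trans h.dag_eq.le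

theorem le_O {R : Subgroup G} (hR : IsPGroup p R) (hN : R ≤ N[O[p,M]]) (hC : R ≤ C[Y[p,M]]) : R ≤ O[p,M] :=
  syl_le_of_le_N h.syl_C hC hR hN

theorem le_O' {R : Subgroup G} (hR : IsPGroup p R) (hN : O[p,M] ≤ N[R]) (hC : R ≤ C[Y[p,M]]) : R ≤ O[p,M] :=
  syl_le_of_N h.syl_C hC hR hN

theorem wc_dag : WC p N[Y[p,M]] O[p,M] := by
  refine wc_of_syl (h.syl.mono (h.le.trans (le_N_Y M)) le_top) (pCoreOf_le_syl h.sylM) fun g hg h1 => ?_
  refine eq_of_le_of_card_ge ?_ (card_cj _ _).ge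
  conv_rhs => rw [h.O_eq]
  exact le_inf h1 (cj_le_of_mem_N (N_le_N_C _ hg) h.O_le_C)

variable (ha : ¬ IsSymmetricIn Y[p,M])
include ha

theorem comm_of_N {g : G} (h1 : Y[p,M] ≤ N[cj g Y[p,M]]) (h2 : cj g Y[p,M] ≤ N[Y[p,M]]) :
    Y[p,M] ≤ C[cj g Y[p,M]] := by
  by_contra hc
  exact ha ⟨g, fun e => hc (le_C_iff_comm.2 e), le_inf (comm_le_of_le_N h2) (comm_le_of_le_N' h1)⟩

theorem elemAb_ncl {R K : Subgroup G} (h1 : Y[p,M] ≤ R) (h2 : R ≤ N[Y[p,M]]) (hK : K ≤ N[R]) :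
    IsElementaryAbelian p (ncl K Y[p,M]) := by
  refine H4.elemAb_ncl h.Yea fun g hg => h.comm_of_N ha ?_ ((cj_le_of_mem_N (hK hg) h1).trans h2)
  rw [← cj_N]
  exact h1.trans ((cj_eq_of_mem_N (hK hg)).ge.trans (cj_mono g h2))

theorem wc : WC p ⊤ O[p,M] := by
  set P := O[p,M] with hP
  set s : Set G := {g | P ≤ N[cj g P] ∧ cj g P ≤ N[P]} with hs
  have hinv : ∀ g ∈ s, g⁻¹ ∈ s := fun g hg => by
    refine ⟨?_, ?_⟩
    · rw [← cj_N]; exact cj_le_iff.1 hg.2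
    · rw [← le_cj_iff, cj_N]; exact hg.1
  have key : ∀ n : ℕ, ∀ l : List G, l.length = n → (∀ g ∈ l, g ∈ s) → cj l.prod Y[p,M] ≤ P := by
    intro n
    induction n with
    | zero =>
      intro l h1 _
      rw [List.length_eq_zero_iff.1 h1, List.prod_nil, cj_one]; exact h.Y_le_O
    | succ n ih =>
      have step : ∀ l : List G, l.length = n + 1 → (∀ g ∈ l, g ∈ s) → cj l.prod Y[p,M] ≤ N[P] := by
        intro l h1 h2
        obtain _ | ⟨g, l⟩ := l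
        · simp at h1
        · rw [List.prod_cons, cj_mul]
          exact (cj_mono g (ih l (by simpa using h1) fun x hx => h2 x (List.mem_cons_of_mem _ hx))).trans
            (h2 g List.mem_cons_self).2
      intro l h1 h2
      have h3 := step l h1 h2
      have h4 := step (l.map fun x => x⁻¹).reverse (by simpa using h1) (by
        intro g hg
        simp only [List.mem_reverse, List.mem_map] at hg
        obtain ⟨x, hx, rfl⟩ := hg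
        exact hinv x (h2 x hx))
      rw [← List.prod_inv_reverse] at h4
      refine h.le_O (isPGroup_cj _ h.Yp) h3 (le_centralizer_iff.1 (h.comm_of_N ha ?_ (h3.trans h.N_O_le)))
      rw [← cj_N, le_cj_iff]; exact h4.trans h.N_O_le
  have h1 : ncl (closure s) Y[p,M] ≤ P := ncl_le_iff.2 fun x hx => by
    have hx' : x ∈ (closure s).toSubmonoid := hx
    rw [closure_toSubmonoid] at hx'
    obtain ⟨l, h2, rfl⟩ := Submonoid.exists_list_of_mem_closure hx'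
    exact key _ l rfl fun g hg => (h2 g hg).elim id fun h3 => by simpa using hinv _ h3
  have h2 : M ≤ closure s := fun m hm => subset_closure (by
    have := cj_eq_of_mem_N (le_N_pCoreOf (p := p) M hm)
    exact ⟨by rw [this]; exact le_normalizer, by rw [this]; exact le_normalizer⟩)
  have h3 : closure s ≤ N[Y[p,M]] := (le_N_ncl _ _).trans (h.N_le ((pgrp_pCoreOf M).to_le h1)
    (fun e => h.Y_ne (le_bot_iff.1 ((le_ncl _ _).trans e.le))) (h2.trans (le_N_ncl _ _)))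
  exact wc_of_comm le_top (pgrp_pCoreOf M) fun g _ h4 h5 =>
    h.wc_dag.eq_of_N (h3 (subset_closure ⟨h4, h5⟩)) h5

theorem syl_le_N {L T : Subgroup G} (hT : SylIn p T L) (h1 : O[p,M] ≤ T) : T ≤ N[O[p,M]] :=
  (h.wc ha).le_N hT.isP h1 le_top

theorem exists_syl {L : Subgroup G} (h1 : O[p,M] ≤ L) :
    ∃ T, SylIn p T L ∧ O[p,M] ≤ T ∧ T ≤ N[O[p,M]] := ((h.wc ha).mono h1 le_top).exists_syl_le_N

theorem O_le_N {L : Subgroup G} (h1 : O[p,M] ≤ N[L]) : O[p,L] ≤ N[O[p,M]] :=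
  (h.wc ha).pCoreOf_le_N le_top h1

theorem chP_of_le {H L : Subgroup G} (hH : ChP p H) (h1 : O[p,M] ≤ L) (h2 : L ≤ H) : ChP p L :=
  chP_of_le_of_N hH (pgrp_pCoreOf M) h1 h2 (h.O_le_N ha ((h1.trans h2).trans le_normalizer))
    ((pgrp_pCoreOf M).to_le (inf_le_right.trans h.C_O_le))

theorem fusion {x g : G} (hx : x ∈ Y[p,M]) (hg : g * x * g⁻¹ ∈ Y[p,M]) : ∃ m ∈ M, m * x * m⁻¹ = g * x * g⁻¹ := by
  have h0 : ∀ y ∈ Y[p,M], O[p,M] ≤ centralizer {y} := fun y hy => by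
    rw [← C_zpowers]; exact h.O_le_C.trans (C_anti (zpowers_le.2 hy))
  have h1 : cj g⁻¹ O[p,M] ≤ centralizer {x} := by
    rw [← le_cj_iff, cj_centralizer_singleton]; exact h0 _ hg
  obtain ⟨c, hc, e⟩ := (h.wc ha).exists_cj (h0 x hx) le_top (mem_top _) h1
  have h2 : g * c ∈ M ⊔ C[Y[p,M]] := by
    rw [h.dag_eq]
    exact h.N_O_le (mem_N_iff_cj.2 (by rw [cj_mul, ← e, cj_cj_inv]))
  obtain ⟨m, hm, d, hd, e2⟩ := (mem_sup_of_le_N (pred_Y M).NC).1 h2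
  refine ⟨m, hm, ?_⟩
  have h3 : x * c = c * x := mem_centralizer_iff.1 hc x rfl
  have h4 : x * d = d * x := mem_C.1 hd x hx
  calc m * x * m⁻¹ = (m * d) * x * (m * d)⁻¹ := by rw [mul_assoc m d x, ← h4]; group
    _ = g * x * g⁻¹ := by rw [e2, mul_assoc g c x, ← h3]; group

end FM

/-- `H ∈ ℌ(O_p(M))` with `Y_M` asymmetric. -/
structure FH (p : ℕ) (S M H : Subgroup G) : Prop where
  fm : FM p S M
  asym : ¬ IsSymmetricIn Y[p,M]
  chP : ChP p H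
  le : O[p,M] ≤ H
  not_le : ¬ Y[p,M] ≤ O[p,H]
  min : ∀ P : Subgroup G, O[p,M] ≤ P → P < H → Y[p,M] ≤ O[p,P]

theorem fh_of {S M H : Subgroup G} (h : FM p S M) (ha : ¬ IsSymmetricIn Y[p,M]) (hH : IsInFrakH p M H) :
    FH p S M H := ⟨h, ha, chP_iff.2 hH.1, hH.2.1, hH.2.2.1, hH.2.2.2⟩

namespace FH

variable {S M H : Subgroup G} (h : FH p S M H)
include h

theorem Y_le : Y[p,M] ≤ H := h.fm.Y_le_O.trans h.le
theorem O_le_N : O[p,H] ≤ N[O[p,M]] := h.fm.O_le_N h.asym (h.le.trans le_normalizer)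
theorem O_le_NY : O[p,H] ≤ N[Y[p,M]] := h.O_le_N.trans h.fm.N_O_le
theorem not_pgrp : ¬ IsPGroup p H := fun h1 => h.not_le (by rw [pCoreOf_eq_self h1]; exact h.Y_le)

theorem ge_of {K : Subgroup G} (h1 : O[p,M] ≤ K) (h2 : K ≤ H) (h3 : ¬ Y[p,M] ≤ O[p,K]) : H ≤ K := by
  by_contra hc; exact h3 (h.min K h1 (lt_of_le_not_ge h2 hc))

theorem ge_of_sn {K L : Subgroup G} (h1 : O[p,M] ≤ K) (h2 : K ≤ H) (hL : L ≤ K) (hY : Y[p,M] ≤ L)
    (h3 : SubnormalIn L H) : H ≤ K :=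
  h.ge_of h1 h2 fun h4 => h.not_le
    (((le_inf hY h4).trans (inf_pCoreOf_le (hL.trans le_normalizer))).trans (pCoreOf_mono_sn h3))

theorem res_sup : pResidualOf p H ⊔ O[p,M] = H := by
  have h1 : pResidualOf p H ⊔ O[p,M] ≤ H := sup_le (pResidualOf_le H) h.le
  exact le_antisymm h1 (h.ge_of_sn le_sup_right h1 le_rfl (h.fm.Y_le_O.trans le_sup_right)
    (sn_of_res_le (p := p) le_sup_left h1))

theorem ncl_res : ncl (pResidualOf p H) Y[p,M] = ncl H Y[p,M] := by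
  rw [← ncl_sup_N (h.fm.O_le_C.trans (C_le_N _)) (h.le.trans (le_N_pResidualOf H)), h.res_sup]

theorem res_le_ncl : pResidualOf p H ≤ ncl H Y[p,M] := by
  refine pResidualOf_le_of_le_sup (pgrp_pCoreOf M) (h.le.trans (le_N_ncl H _)) ?_
  exact h.ge_of_sn le_sup_right (sup_le (ncl_le_self h.Y_le) h.le) le_sup_left (le_ncl H _)
    (sn_of_N (ncl_le_self h.Y_le) (le_N_ncl H _))

theorem comm_res : ⁅pResidualOf p H, Y[p,M]⁆ = pResidualOf p H :=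
  le_antisymm (comm_le_of_le_N (h.Y_le.trans (le_N_pResidualOf H)))
    (res_le_comm h.fm.Yp (h.res_le_ncl.trans h.ncl_res.ge))

theorem res_sup_Y : pResidualOf p H ⊔ Y[p,M] = ncl H Y[p,M] := by
  rw [← h.ncl_res, ncl_eq_comm_sup, h.comm_res]

theorem ncl_O : ncl H O[p,M] = H := by
  refine le_antisymm (ncl_le_self h.le) ?_
  conv_lhs => rw [← h.res_sup]
  exact sup_le (h.res_le_ncl.trans (ncl_mono le_rfl h.fm.Y_le_O)) (le_ncl _ _)

theorem pirr : PIrr p H := by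
  refine ⟨fun hc => h.not_le (hc.le_pCoreOf h.Y_le h.fm.Yp), fun K hK hN hc => ?_⟩
  have hPK : O[p,M] ≤ N[K] := h.le.trans hN
  by_cases h1 : H ≤ K ⊔ O[p,M]
  · exact pResidualOf_le_of_le_sup (pgrp_pCoreOf M) hPK h1
  exfalso
  have h2 := h.min _ le_sup_right (lt_of_le_not_ge (sup_le hK h.le) h1)
  have h3 : ⁅K, Y[p,M]⁆ ≤ O[p,H] := by
    refine le_trans (le_inf (comm_le_of_le_N (h.Y_le.trans hN)) ?_)
      ((inf_pCoreOf_le (H := K ⊔ O[p,M]) (le_sup_left.trans le_normalizer)).trans (pCoreOf_mono_N hK hN))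
    exact (commutator_mono le_rfl h2).trans (comm_le_of_le_N' (le_sup_left.trans (le_N_pCoreOf _)))
  obtain ⟨R, hR, h4, -⟩ := exists_syl_N (pgrp_pCoreOf (p := p) M) hPK
  have e := syl_frattini_sup hR hK hN
  have h5 : ¬ H ≤ H ⊓ N[R] := fun h5 => hc (pcl_of_syl_N hR (hK.trans (h5.trans inf_le_right)))
  have h6 := h.min _ (le_inf h.le h4) (lt_of_le_not_ge inf_le_left h5)
  set X := H ⊓ N[R]
  have hXO : O[p,X] ≤ N[O[p,H]] := ((pCoreOf_le X).trans inf_le_left).trans (le_N_pCoreOf H)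
  have h7 : ncl H Y[p,M] ≤ O[p,X] ⊔ O[p,H] := ncl_le_iff.2 fun g hg => by
    rw [← e, sup_comm] at hg
    obtain ⟨x, hx, k, hk, rfl⟩ := (mem_sup_of_le_N (inf_le_left.trans hN)).1 hg
    rw [cj_mul]
    refine cj_le_of_mem_N (le_N_sup (le_N_pCoreOf X) (inf_le_left.trans (le_N_pCoreOf H)) hx) ?_
    exact (le_sup_comm_of_cj hk).trans (sup_le (h3.trans le_sup_right) (h6.trans le_sup_left))
  exact h.not_le ((le_ncl H _).trans (le_pCoreOf (ncl_le_self h.Y_le) (le_N_ncl H _)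
    ((pgrp_sup (pgrp_pCoreOf X) (pgrp_pCoreOf H) hXO).to_le h7)))

theorem not_res_le_C : ¬ pResidualOf p H ≤ C[O[p,H]] := fun h1 =>
  h.not_pgrp (pgrp_of_res_le_C (pgrp_pCoreOf H) h.chP le_rfl h1)

end FH

/-- MSS 1.40. -/
theorem quad_comm_sup {V L X : Subgroup G} {g : G} (hLV : L ≤ N[V]) (hg : g ∈ L)
    (hq : ⁅⁅V, X⁆, X⁆ = ⊥) (hgen : X ⊔ cj g X = L) :
    ⁅V, X⁆ ⊔ ⁅V, cj g X⁆ = ⁅V, L⁆ ∧ ⁅V, L⁆ ⊓ C[X] = ⁅V, X⁆ ∧ ⁅V, L⁆ ⊓ C[L] = ⁅V, X⁆ ⊓ ⁅V, cj g X⁆ := by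
  have hX : X ≤ L := le_sup_left.trans hgen.le
  have hX' : cj g X ≤ L := le_sup_right.trans hgen.le
  have e0 : cj g ⁅V, X⁆ = ⁅V, cj g X⁆ := by rw [cj_commutator, cj_eq_of_mem_N (hLV hg)]
  have h1 : ⁅V, X⁆ ≤ C[X] := le_C_iff_comm.2 hq
  have h2 : ⁅V, cj g X⁆ ≤ C[cj g X] := by rw [← e0, ← cj_C]; exact cj_mono g h1
  have hV1 : ⁅V, X⁆ ≤ V := comm_le_of_le_N (hX.trans hLV)
  have hV2 : ⁅V, cj g X⁆ ≤ V := comm_le_of_le_N (hX'.trans hLV)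
  have e1 : ⁅V, X⁆ ⊔ ⁅V, cj g X⁆ = ⁅V, L⁆ := by
    refine le_antisymm (sup_le (commutator_mono le_rfl hX) (commutator_mono le_rfl hX')) ?_
    rw [← hgen]
    refine comm_sup_le (le_N_of_comm_le ?_) (le_N_of_comm_le ?_) le_sup_left le_sup_right
    · exact (commutator_mono (sup_le hV1 hV2) le_rfl).trans le_sup_left
    · exact (commutator_mono (sup_le hV1 hV2) le_rfl).trans le_sup_right
  have h3 : ⁅V, cj g X⁆ ⊓ C[X] ≤ ⁅V, X⁆ := by
    have h4 : ⁅V, cj g X⁆ ⊓ C[X] ≤ C[L] := by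
      rw [← hgen, C_sup]; exact le_inf inf_le_right (inf_le_left.trans h2)
    intro x hx
    have h5 : x ∈ ⁅V, cj g X⁆ := hx.1
    rw [← e0, mem_cj, mul_assoc, ← mem_C.1 (h4 hx) g hg] at h5
    simpa using h5
  have e2 : ⁅V, L⁆ ⊓ C[X] = ⁅V, X⁆ := by
    rw [← e1, dedekind_N' (hV2.trans (le_N_comm_left V X)) h1, sup_eq_left.2 h3]
  refine ⟨e1, e2, ?_⟩
  have e3 := congrArg (cj g) e2
  rw [cj_inf, cj_C, e0, cj_commutator, cj_eq_of_mem_N (hLV hg), cj_eq_of_mem hg] at e3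
  conv_lhs => rw [← hgen, C_sup, hgen]
  rw [← e2, ← e3]
  exact inf_inf_distrib_left _ _ _

end Cfsg.Agent.H4
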