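import Mathlib
import Cfsg.Agent.H4.Ln3
import Cfsg.Agent.H13.Ln5

/-! Short simple groups: the non-solvable case. -/

set_option autoImplicit false
set_option linter.unusedSectionVars false

namespace Cfsg.Agent.H4L

open Cfsg Subgroup Cfsg.Agent.FT
open scoped commutatorElement

universe u

variable {G : Type u} [Group G] [Finite G]

theorem sol_small {T : Subgroup G} (hT : IsCoatom T) {j : ℕ} (hc : #T = 2 ^ j) (hj : j ≤ 3) : Group.IsSolvable G := by
  have hp : PGrp 2 T := pGrp_of_card Nat.prime_two hc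
  refine S4039.result _ hT hp.nil ((H23.clsLE_iff hp.nil).1 ?_)
  rcases hj.lt_or_eq with e | rfl
  · exact clsLE_two.2 ((der_le _).trans (hp.ab_of_card_le Nat.prime_two
      (hc ▸ Nat.pow_le_pow_right two_pos (by omega))).le_cen)
  · exact H3.lcs_eq_bot_of_card Nat.prime_two hc (by norm_num)

namespace Cf

variable {S R H : Subgroup G} {y : G}

set_option maxHeartbeats 1000000 in
theorem caseC (h : Cf S R H y) (hp : _root_.commutator G = ⊤) (h2 : ¬ H ⊓ C(O[{2}](H)) ≤ R) (hs : ¬ Sol H) {k : ℕ}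
    (hk : k ≤ 7) (hS : #S = 2 ^ k) (hl : ¬ Ch (k + 2) (⊤ : Subgroup G)) (hH : H ≠ ⊤)
    (h5 : k = 7 → ∀ (X : Type u) [Group X] [Finite X], ¬ Group.IsSolvable X → ∀ T : Subgroup X, Syl 2 T ⊤ → #T = 32 →
      (∀ K : Subgroup X, K.Normal → IsPGroup 2 K → K = ⊥) → ¬ Ch 7 (⊤ : Subgroup X) → ∃ a ∈ T, 2 * orderOf a = #T) :
    ∃ a ∈ S, 2 * orderOf a = #S := by
  have hinf := h.inf2 h2
  have hQy := h.nQy
  obtain ⟨t, hQ, hc, ho⟩ := h.exists_t
  obtain ⟨z, hz, hzc, hoz⟩ := h.exists_z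
  obtain ⟨s1, s2, s3⟩ := h.s_spec h2 hQ hc ho
  have hHt := h.cen2 h2 hQ hc
  have hfin := h.fin hp h2 hQ hc ho
  have hzeq := h.z_eq h2 hQ hc ho hzc
  have hQR := h.QR
  have hcen2 := fun {t} => h.cen2 h2 (t := t)
  have qn : O[{2}](H) ⊴ H := pcore_nml _ _
  have qp : PGrp 2 O[{2}](H) := pcore_pi _ _
  have qm : ∀ K, PGrp 2 K → K ⊴ H → K ≤ O[{2}](H) := fun K a b => pcore_max a b
  have q1 := h.core
  generalize O[{2}](H) = Q at *
  obtain ⟨X, _, _, f, fs, fk⟩ : ∃ (X : Type u) (_ : Group X) (_ : Finite X) (f : H →* X),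
      Function.Surjective f ∧ pker f = Q := by
    have := qn.normal
    exact ⟨H ⧸ Q.subgroupOf H, inferInstance, inferInstance, QuotientGroup.mk' _, QuotientGroup.mk'_surjective _,
      by rw [pker, QuotientGroup.ker_mk', map_so qn.le]⟩
  have fk' : f.ker ≠ ⊥ := fun e => q1 (by rw [← fk, pker, e, Subgroup.map_bot])
  have hf : pmap f H = ⊤ := by rw [pmap_dom]; exact MonoidHom.range_eq_top.2 fs
  have hT : Syl 2 (pmap f R) ⊤ := hf ▸ h.sR.pmap f le_rfl
  have hX : ¬ Group.IsSolvable X := fun e =>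
    hs (sol_of_pmap (f := f) le_rfl ((fk ▸ qp.sol : Sol (pker f)).mono inf_le_left) (hf ▸ sol_top.2 e))
  have hpp : ∀ K, pmap f (ppre f K) = K := fun K => by rw [pmap_ppre, hf, top_inf_eq]
  have hco : IsCoatom (pmap f R) := by
    refine ⟨fun e => h.mx.lt.not_ge ((pmap_le_pmap_of_ker_le (f := f) le_rfl (fk ▸ hQR)).1 (e ▸ le_top)), fun K hK => ?_⟩
    have l : R ≤ ppre f K := (pmap_le_iff h.RH).1 hK.le
    have := h.mx.max _ (lt_of_le_of_ne l fun e => hK.ne (by rw [e, hpp])) (ppre_le f K)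
    rw [← hpp K, this, hf]
  have hcore : ∀ K : Subgroup X, K.Normal → IsPGroup 2 K → K = ⊥ := fun K a b => by
    rw [← hpp K]
    refine pmap_eq_bot_of_le (fk ▸ qm _ ((pGrp_of_isPGroup Nat.prime_two b).ppre (fk ▸ qp)) ?_)
    exact Nml.ppre_of_pmap le_rfl (fk ▸ qn.le) (hf ▸ nml_top_iff.2 a)
  have hcard : #Q * #(pmap f R) = #R := by
    have := card_pmap_mul f h.RH
    rwa [fk, inf_eq_left.2 hQR] at this
  obtain ⟨j, hj⟩ := hT.pi.card
  obtain ⟨q, hq⟩ := qp.card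
  have hq1 : 1 ≤ q := Nat.pos_of_ne_zero fun e => q1 (eq_bot_iff_card'.2 (by rw [hq, e, pow_zero]))
  have hj4 : 4 ≤ j := by
    by_contra e
    exact hX (sol_small hco hj (by omega))
  have hle : q + j + 1 ≤ k := by
    have := h.two_mul_le
    rw [← hcard, hj, hq, hS, ← pow_add, ← pow_succ'] at this
    exact (Nat.pow_le_pow_iff_right one_lt_two).1 this
  obtain ⟨T, hTe⟩ := (syl_top_iff Nat.prime_two).1 hT
  obtain ⟨-, m1, m2⟩ := H13.Ln.mc hX T (hTe ▸ hco) hcore (by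
    rw [hTe]
    rcases hj4.eq_or_lt with e | e
    · exact Or.inl (by rw [hj, ← e]; norm_num)
    · have e5 : j = 5 := by omega
      have e7 : k = 7 := by omega
      refine Or.inr ⟨by rw [hj, e5]; norm_num, h5 e7 _ hX _ hT (by rw [hj, e5]; norm_num) hcore fun c => hl ?_⟩
      have c2 := (c.comap fs fk').map H.subtype_injective
      rw [e7]
      exact Ch.step c2 (lt_of_le_of_lt (map_subtype_le _) (lt_top_iff_ne_top.2 hH)))
  rw [hTe] at m1 m2
  -- normal elementary abelian subgroups of `R` of order `> 2` meet `Q`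
  have n1 : ∀ W, W ⊴ R → (∀ w ∈ W, w * w = 1) → 2 < #W → Q ⊓ W ≠ ⊥ := fun W w1 w2 w3 e => by
    have := m1 (pmap f W) (pmap_mono f w1.le) (w1.pmap f).nrm fun w hw => by
      obtain ⟨x, x1, x2, rfl⟩ := mem_pmap.1 hw
      rw [← pfun_mul f x2 x2, w2 x x1, pfun_one]
    rw [card_pmap_of_inf (w1.le.trans h.RH) (fk ▸ e)] at this
    omega
  have t2 := H20.mul_self_of_orderOf_two ho
  have n2 : ∀ a ∈ Q, a * a = 1 → a = 1 ∨ a = t := fun a ha a2 => by
    by_contra hne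
    push Not at hne
    obtain ⟨f1, f2, -⟩ := four (H20.orderOf_two_of a2 hne.1) ho (mem_cen.1 hc a (hQR ha)) hne.2
    have l := sup_le (zpowers_le.2 ha) (zpowers_le.2 hQ)
    have e : ⟪a⟫ ⊔ ⟪t⟫ = Q := by
      refine eq_of_card_le l ?_
      obtain ⟨n, hn⟩ := (qp.mono l).card
      rw [hn] at f1 ⊢
      rw [hq]
      have : 1 < n := (Nat.pow_lt_pow_iff_right one_lt_two).1 (by simpa using f1)
      exact Nat.pow_le_pow_right two_pos (by omega)
    rw [e] at f1 f2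
    refine n1 _ hQy (fun w hw => ?_) (by rwa [card_cj]) hinf
    obtain ⟨v, hv, rfl⟩ := mem_cj'.1 hw
    calc y * v * y⁻¹ * (y * v * y⁻¹) = y * (v * v) * y⁻¹ := by group
      _ = 1 := by rw [f2 v hv]; group
  have z2 := H20.mul_self_of_orderOf_two hoz
  have zR := h.ZS hz hzc
  have zH := h.RH zR
  have hcz := h.cz z hz (H20.ne_one_of_orderOf_two hoz) hzc
  have nc := h.nconj hz hzc hoz hHt
  have zg2 : ∀ g : G, g * z * g⁻¹ * (g * z * g⁻¹) = 1 := fun g =>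
    H20.mul_self_of_orderOf_two (by rw [orderOf_conj, hoz])
  have zQ : ∀ g : G, g * z * g⁻¹ ∉ Q := fun g e => by
    rcases n2 _ e (zg2 g) with e | e
    · exact conj_ne_one.2 (H20.ne_one_of_orderOf_two hoz) e
    · exact nc g e
  have of : ∀ a ∈ H, a * a = 1 → a ∉ Q → orderOf (pfun f a) = 2 := fun a ha a2 a3 =>
    H20.orderOf_two_of (by rw [← pfun_mul f ha ha, a2, pfun_one]) fun e => a3 (fk ▸ (pfun_eq_one_iff ha).1 e)
  have hsz : z ≠ y * t * y⁻¹ := fun e => nc y⁻¹ (by rw [e]; group)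
  have hzs : t = z * (y * t * y⁻¹) := by
    obtain ⟨f1, f2, f3⟩ := four hoz (show orderOf (y * t * y⁻¹) = 2 by rw [orderOf_conj, ho]) (mem_cen.1 s2 z zR) hsz
    obtain ⟨w, w1, w2⟩ := exists_ne_one (n1 _ (nml_of_le_center
      (sup_le (zpowers_le.2 ⟨zR, cen_anti h.RS hzc⟩) (zpowers_le.2 ⟨s1, s2⟩))) f2 f1)
    rcases f3 w w1.2 with e | e | e | e
    · exact absurd e w2
    · exact absurd (by simpa [← e] using w1.1) (zQ 1)
    · exact absurd (e ▸ w1.1) s3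
    · exact hzeq (e ▸ w1.1)
  obtain ⟨⟨g, g1, g2⟩, m3⟩ := m2 (pfun f z) (mem_pmap_of_mem f zH zR) (of z zH z2 (by simpa using zQ 1)) fun s hs => by
    obtain ⟨x, x1, x2, rfl⟩ := mem_pmap.1 hs
    rw [← pfun_mul f x2 zH, ← pfun_mul f zH x2, mem_cen.1 hzc x (h.RS x1)]
  have lift : ∀ g, ∃ c ∈ H, pfun f c = g := fun g => by
    obtain ⟨c, rfl⟩ := fs g
    exact ⟨c, c.2, pfun_coe f c⟩
  have hRC : R ⊔ H ⊓ C(Q) = H := h.mx.sup_eq inf_le_left h2
  have hnC : H ≤ N(H ⊓ C(Q)) := norms_subcent (le_nrm H) qn.nrm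
  have hpC : ¬ PGrp 2 (H ⊓ C(Q)) := fun e => h.npH (hRC ▸ h.sR.pi.sup' e (h.RH.trans hnC))
  refine hfin (fun W w1 w2 w3 => ?_) hz hzc hoz hzs (fun d hd => ?_) fun _ => Or.inr ?_
  · obtain ⟨w, x1, x2⟩ := exists_ne_one (n1 W w1 w2 (by omega))
    exact ⟨w, x1.2, x2, fun e => hpC (e.mono (inf_le_right.trans (cen_le_cen1 x1.1)))⟩
  · set a := d * z * d⁻¹ with ha
    have aH := h.RH hd
    have pa : PGrp 2 C[a] := by rw [ha, ← cj_cen1, hcz]; exact h.syl.pi.cj d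
    have := m3 (pfun f a) (mem_pmap_of_mem f aH hd) (of a aH (zg2 d) (zQ d)) (by
      rw [← pGrp_iff Nat.prime_two]
      refine piGrp_iff_forall.2 fun x hx => ?_
      obtain ⟨c, c1, rfl⟩ := lift x
      refine PiElt.pfun ?_ f
      have i1 : (H ⊓ C(Q)).relIndex H ∣ #R := by
        conv_lhs => enter [2]; rw [← hRC, sup_comm]
        rw [relIndex_sup_norm (h.RH.trans hnC)]
        exact relIndex_dvd _ _
      obtain ⟨r, hr⟩ := h.sR.pi.card
      obtain ⟨i, -, hi⟩ := (Nat.dvd_prime_pow Nat.prime_two).1 (hr ▸ i1)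
      have e1 := pow_relIndex_mem hnC c1
      rw [hi] at e1
      set e := c ^ 2 ^ i with he
      have e2 : e * a * e⁻¹ * a⁻¹ ∈ Q := by
        rw [← fk, ← pfun_eq_one_iff (mul_mem (mul_mem (mul_mem e1.1 aH) (inv_mem e1.1)) (inv_mem aH)),
          pfun_mul f (mul_mem (mul_mem e1.1 aH) (inv_mem e1.1)) (inv_mem aH), pfun_conj f e1.1 aH, pfun_inv f aH, he,
          pfun_pow f c1, mem_cen1.1 (pow_mem hx _)]
        group
      have e3 : ∀ n : ℕ, e ^ n * a * (e ^ n)⁻¹ = (e * a * e⁻¹ * a⁻¹) ^ n * a := fun n => by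
        induction n with
        | zero => simp
        | succ n ih =>
          have := mem_cen.1 e1.2 _ (pow_mem e2 n)
          calc e ^ (n + 1) * a * (e ^ (n + 1))⁻¹ = e * (e ^ n * a * (e ^ n)⁻¹) * e⁻¹ := by rw [pow_succ']; group
            _ = (e * (e * a * e⁻¹ * a⁻¹) ^ n) * a * e⁻¹ := by rw [ih]; simp only [mul_assoc]
            _ = _ := by rw [← this, pow_succ]; simp only [mul_assoc, inv_mul_cancel, mul_one]
      have e4 : e ^ 2 ^ q ∈ C[a] := by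
        have := e3 (2 ^ q)
        rw [← hq, pow_card e2, one_mul, hq] at this
        exact mem_cen1.2 (mul_inv_eq_iff_eq_mul.1 this)
      obtain ⟨n, hn⟩ := (pa.piElt e4).exists_pow
      exact (pElt_iff Nat.prime_two).2 ⟨i + q + n, by rw [pow_add, pow_add, pow_mul, pow_mul, ← he, hn]⟩)
    obtain ⟨x, hx⟩ := isConj_iff.1 this
    obtain ⟨c, c1, rfl⟩ := lift x
    rw [← pfun_conj f c1 aH, eq_comm, pfun_eq_iff zH (mul_mem (mul_mem c1 aH) (inv_mem c1)), fk] at hx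
    have e1 : z * (z⁻¹ * (c * a * c⁻¹)) = z⁻¹ * (c * a * c⁻¹) * z := (mem_cen.1 hzc _ (h.RS (hQR hx))).symm
    have e2 : c * a * c⁻¹ = c * d * z * (c * d)⁻¹ := by rw [ha]; group
    rcases n2 _ hx (by
      calc z⁻¹ * (c * a * c⁻¹) * (z⁻¹ * (c * a * c⁻¹)) = (z⁻¹ * (c * a * c⁻¹) * z) * (z * z)⁻¹ * (c * a * c⁻¹) := by group
        _ = 1 := by rw [← e1, z2, mul_inv_cancel_left, inv_one, mul_one, e2, zg2]) with e | e
    · refine ⟨c⁻¹, inv_mem c1, ?_⟩
      rw [inv_mul_eq_one.1 e]; group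
    · exfalso
      apply nc (y⁻¹ * (c * d))
      have : c * d * z * (c * d)⁻¹ = y * t * y⁻¹ := by
        rw [← e2, inv_mul_eq_iff_eq_mul.1 e]
        nth_rewrite 1 [hzs]
        rw [← mul_assoc, z2, one_mul]
      calc y⁻¹ * (c * d) * z * (y⁻¹ * (c * d))⁻¹ = y⁻¹ * (c * d * z * (c * d)⁻¹) * y := by group
        _ = t := by rw [this]; group
  · obtain ⟨c, c1, rfl⟩ := lift g
    rw [← pfun_conj f c1 zH] at g1 g2
    exact ⟨c, c1, mem_of_pfun_mem (mul_mem (mul_mem c1 zH) (inv_mem c1)) (fk ▸ hQR) g1, fun e => g2 (by rw [e])⟩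

end Cf

end Cfsg.Agent.H4L
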