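import Mathlib
import Cfsg.Agent.H4.WC
import Cfsg.Agent.H1.Product

/-! More on `p`-minimal groups and coprime action. -/

set_option autoImplicit false
set_option linter.unusedSectionVars false
set_option linter.unusedVariables false

namespace Cfsg.Agent.H4

open Subgroup Cfsg.Agent.H18 Cfsg.Agent.H22
open Cfsg.Agent.H2 (SubnormalIn ComponentIn)
open scoped commutatorElement Pointwise

variable {G : Type*} [Group G] {p : ℕ} [hp : Fact p.Prime] [Finite G]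

theorem MinOv.exists_prime {H T M : Subgroup G} (h : MinOv H T M) (hT : SylIn p T H)
    (hc : PCl p (pResidualOf p H)) : ∃ q : ℕ, q.Prime ∧ ∃ Q T' : Subgroup G, IsPGroup q Q ∧ IsPGroup p T' ∧
      Q ≤ pResidualOf p H ∧ T' ≤ N[Q ⊔ pCoreOf p (pResidualOf p H)] ∧
      H = (Q ⊔ pCoreOf p (pResidualOf p H)) ⊔ T' := by
  by_contra hcon
  refine h.not_res_le (p := p) (le_of_forall_syl fun q hq => ?_)
  haveI := Fact.mk hq
  set R := pResidualOf p H with hR
  set D := pCoreOf p R with hD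
  have nR : H ≤ N[R] := le_N_pResidualOf H
  have nD : H ≤ N[D] := nR.trans (N_le_N_pCoreOf R)
  have hRH : R ≤ H := pResidualOf_le H
  have hDH : D ≤ H := (H22.pCoreOf_le R).trans hRH
  obtain ⟨Q, hQ⟩ := exists_sylIn q R
  have e := syl_frattini_sup hQ hRH nR
  have hU : H ⊓ N[Q] ≤ H ⊓ N[Q ⊔ D] := le_inf inf_le_left (le_N_sup inf_le_right (inf_le_left.trans nD))
  obtain ⟨T', hT', h1⟩ := exists_syl_le_of_sup (H := H) (U := H ⊓ N[Q ⊔ D]) (inf_le_left.trans nR)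
    (le_antisymm (sup_le inf_le_left hRH) (by
      refine e.ge.trans ?_; rw [sup_comm]; exact sup_le_sup_right hU _)) hc.syl_pCoreOf
    (le_inf hDH (le_N_sup_self ((hQ.le.trans hRH).trans nD)))
  obtain ⟨g, hg, hm⟩ := h.of_syl hT hT'
  have hle : (Q ⊔ D) ⊔ T' ≤ H := sup_le (sup_le (hQ.le.trans hRH) hDH) hT'.le
  have h2 : (Q ⊔ D) ⊔ T' ≤ H22.cj g M := hm.le_of_not_le le_sup_right hle fun c =>
    hcon ⟨q, hq, Q, T', hQ.isP, hT'.isP, hQ.le, h1.trans inf_le_right, le_antisymm c hle⟩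
  exact ⟨H22.cj g⁻¹ Q, sylIn_cj_N hQ (nR (inv_mem hg)),
    le_cj_iff.1 ((le_sup_left.trans le_sup_left).trans h2)⟩

theorem comm_eq_bot_of_le_comm {P A B : Subgroup G} (hP : IsPGroup p P) (hA : IsPGroup p A)
    (hB : (Nat.card B).Coprime p) (hnA : A ≤ N[P]) (hnB : B ≤ N[P]) (hAB : ⁅A, B⁆ = ⊥)
    (h : ⁅P, B⁆ ≤ ⁅P, A⁆) : ⁅P, B⁆ = ⊥ := by
  have hAB' : A ≤ C[B] := le_C_iff_comm.2 hAB
  have hQP : ⁅P, B⁆ ≤ P := comm_le_of_le_N hnB
  have nQ : P ⊔ A ≤ N[⁅P, B⁆] :=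
    sup_le (le_N_comm_left _ _) (le_N_commutator hnA (hAB'.trans (C_le_N B)))
  have e : ⁅⁅P, B⁆, B⁆ = ⁅P, B⁆ := H1.commutator_commutator_eq B P hnB (pgrp_coprime hP hB)
  refine pgrp_eq_bot_of_le_comm (P := P ⊔ A) (pgrp_sup' hP hA hnA) (hP.to_le hQP) nQ ?_
  set X := ⁅⁅P, B⁆, P ⊔ A⁆ with hX
  have hXQ : X ≤ ⁅P, B⁆ := comm_le_of_le_N nQ
  have nX : P ⊔ A ≤ N[X] := le_N_comm_right _ _
  have nXB : B ≤ N[X] := le_N_commutator (le_N_comm_right _ _)
    (le_N_sup hnB ((le_centralizer_iff.1 hAB').trans (C_le_N A)))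
  have h1 : ⁅P, A⁆ ≤ X ⊔ (P ⊓ C[B]) := by
    refine (commutator_mono (comm_sup_C_of_coprime hP hnB hB).ge le_rfl).trans ?_
    refine sup_comm_le (le_N_of_comm_le ?_) (le_sup_right.trans le_normalizer)
      ((commutator_mono le_rfl le_sup_right).trans le_sup_left)
      ((comm_le_of_le_N (le_N_inf hnA (le_N_C (hAB'.trans (C_le_N B))))).trans le_sup_right)
    rw [commutator_comm]
    exact (commutator_mono le_rfl (sup_le ((hXQ.trans hQP).trans le_sup_left)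
      (inf_le_left.trans le_sup_left))).trans le_sup_left
  rw [← e]
  refine (commutator_mono (h.trans h1) le_rfl).trans ?_
  exact sup_comm_le le_normalizer ((inf_le_left.trans le_sup_left).trans nX) (comm_le_of_le_N nXB)
    ((le_C_iff_comm.1 inf_le_right).le.trans bot_le)

end Cfsg.Agent.H4
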