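import Cfsg.Agent.H4.U5a
import Cfsg.Agent.GO.Pc
import Cfsg.Agent.S2133
import Cfsg.Agent.S0364

/-! The unitriangular group of degree five over two elements and the Sylow 2-subgroups of the Mathieu group. -/

set_option autoImplicit false
set_option linter.unusedSectionVars false
set_option linter.unusedVariables false

namespace Cfsg.Agent.H4U

open Subgroup Cfsg

/-- the unitriangular group. -/
@[ext] structure T where
  (m : M)
  (c : K2)
  deriving DecidableEq

namespace T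

def β (g h : M) : K2 := g.v1 * h.w1 + g.v2 * h.w2 + g.v3 * h.w3

instance : Mul T := ⟨fun g h => ⟨g.m * h.m, h.c + β g.m h.m + g.c⟩⟩
instance : One T := ⟨⟨1, 0⟩⟩
instance : Inv T := ⟨fun g => ⟨g.m⁻¹, -g.c - β g.m⁻¹ g.m⟩⟩

theorem mul_def (g h : T) : g * h = ⟨g.m * h.m, h.c + β g.m h.m + g.c⟩ := rfl
theorem one_def : (1 : T) = ⟨1, 0⟩ := rfl
theorem inv_def (g : T) : g⁻¹ = ⟨g.m⁻¹, -g.c - β g.m⁻¹ g.m⟩ := rfl

instance : Group T := Group.ofLeftAxioms
  (fun a b c => by
    refine T.ext (mul_assoc _ _ _) ?_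
    simp only [mul_def, β, M.mul_def]; ring)
  (fun a => by
    refine T.ext (one_mul _) ?_
    simp only [mul_def, one_def, β, M.one_def]; ring)
  (fun a => by
    refine T.ext (inv_mul_cancel _) ?_
    simp only [mul_def, one_def, inv_def]; ring)

def eqv : T ≃ M × K2 where
  toFun g := (g.m, g.c)
  invFun p := ⟨p.1, p.2⟩
  left_inv _ := rfl
  right_inv _ := rfl

instance : Fintype T := Fintype.ofEquiv _ eqv.symm

theorem card_T : Nat.card T = 2 ^ 10 := by
  rw [Nat.card_congr eqv, Nat.card_prod, M.card_M]; simp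

def π : T →* M := MonoidHom.mk' (fun g => g.m) fun _ _ => rfl

theorem π_surj : Function.Surjective π := fun m => ⟨⟨m, 0⟩, rfl⟩

def gens : List T := [⟨⟨1, 0, 0, 0, 0, 0, 0, 0, 0⟩, 0⟩, ⟨⟨0, 0, 0, 0, 0, 1, 0, 0, 0⟩, 0⟩, ⟨⟨0, 0, 0, 0, 0, 0, 1, 0, 0⟩, 0⟩,
  ⟨⟨0, 0, 0, 0, 0, 0, 0, 1, 0⟩, 0⟩]

theorem ker_π : π.ker = center T := by
  ext g
  rw [MonoidHom.mem_ker, mem_center_iff]
  constructor
  · intro (h : g.m = 1) k
    refine T.ext (by change k.m * g.m = g.m * k.m; rw [h, one_mul, mul_one]) ?_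
    simp only [mul_def, h, β, M.one_def]; ring
  · intro h
    have : ∀ g : T, (∀ k ∈ gens, k * g = g * k) → g.m = 1 := by decide +kernel
    exact this g fun k _ => h k

def mat (g : T) : Matrix (Fin 5) (Fin 5) K2 :=
  !![1, g.c, g.m.v1, g.m.v2, g.m.v3; 0, 1, 0, 0, 0; 0, g.m.w1, 1, g.m.x, g.m.z; 0, g.m.w2, 0, 1, g.m.y; 0, g.m.w3, 0, 0, 1]

theorem mat_mul (g h : T) : mat (g * h) = mat g * mat h := by
  ext i j
  fin_cases i <;> fin_cases j <;> simp [mat, Matrix.mul_apply, Fin.sum_univ_five, mul_def, M.mul_def, β] <;> ring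

theorem mat_det (g : T) : (mat g).det = 1 := by
  have h : mat g * mat g⁻¹ = 1 := by
    rw [← mat_mul, mul_inv_cancel]; decide +kernel
  have := congrArg Matrix.det h
  rw [Matrix.det_mul, Matrix.det_one] at this
  exact (by decide : ∀ a b : K2, a * b = 1 → a = 1) _ _ this

theorem mat_inj : Function.Injective mat := fun g h e => by
  have e' := fun i j => congrFun (congrFun e i) j
  exact T.ext (M.ext (e' 0 2) (e' 0 3) (e' 0 4) (e' 2 1) (e' 3 1) (e' 4 1) (e' 2 3) (e' 3 4) (e' 2 4)) (e' 0 1)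

def toC : T →* centralizer ({S2133.s0} : Set (Matrix.SpecialLinearGroup (Fin 5) (ZMod 2))) :=
  MonoidHom.mk' (fun g => ⟨⟨mat g, mat_det g⟩, mem_centralizer_singleton_iff.2 (Subtype.ext (by
    have : (S2133.s0 : Matrix (Fin 5) (Fin 5) K2) = mat ⟨1, 1⟩ := by decide +kernel
    change mat g * S2133.s0.1 = S2133.s0.1 * mat g
    rw [this, ← mat_mul, ← mat_mul, mem_center_iff.1 (ker_π ▸ (rfl : π ⟨1, 1⟩ = 1) : (⟨1, 1⟩ : T) ∈ center T) g]))⟩)
    fun g h => Subtype.ext (Subtype.ext (mat_mul g h))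

theorem iso (P : Sylow 2 M24) : Nonempty (T ≃* P) := by
  obtain ⟨z, -, ⟨e⟩⟩ := S2133.result S2133.s0 rfl
  refine GO.sylow_of_inj (φ := ((centralizer {z}).subtype.comp e.symm.toMonoidHom).comp toC)
    ((subtype_injective _).comp e.symm.injective |>.comp fun g h e => mat_inj (congrArg (fun w => w.1.1) e)) card_T P ?_
  rw [P.card_eq_multiplicity, S0364.result, show 244823040 = 2 ^ 10 * 239085 by norm_num,
    Nat.factorization_mul (by norm_num) (by norm_num), Nat.Prime.factorization_pow Nat.prime_two,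
    Finsupp.add_apply, Finsupp.single_eq_same, Nat.factorization_eq_zero_of_not_dvd (by norm_num)]

theorem iso' (P : Sylow 2 M24) : Nonempty ((P ⧸ center P) ≃* M) := by
  obtain ⟨e⟩ := iso P
  have h : (π.comp e.symm.toMonoidHom).ker = center P := by
    ext x
    rw [MonoidHom.mem_ker, MonoidHom.comp_apply, ← MonoidHom.mem_ker, ker_π, mem_center_iff, mem_center_iff]
    exact ⟨fun h y => e.symm.injective (by rw [map_mul, map_mul]; exact h _),
      fun h y => e.injective (by simpa using h (e y))⟩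
  exact ⟨(QuotientGroup.quotientMulEquivOfEq h.symm).trans
    (QuotientGroup.quotientKerEquivOfSurjective _ (π_surj.comp e.symm.surjective))⟩

end T

end Cfsg.Agent.H4U
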